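import Mathlib
import Cfsg.Agent.Helper3.NilAlt

/-! Part F4 of S2256 (team sprint): structure of a nilpotent subgroup of `S_n`, `n % 4 = 3`,
`7 ≤ n`, of order `3 * 2 ^ (v₂((n-3)!) - 1)`. -/

namespace Cfsg.Agent.Helper2

private theorem na3_card_split (v k q : ℕ) (hq : Odd q) (h : 3 * 2 ^ v = 2 ^ k * q) :
    k = v ∧ q = 3 := by
  have h1 : 2 ^ v ∣ 2 ^ k * q := ⟨3, by rw [← h]; ring⟩
  have hc : Nat.Coprime (2 ^ v) q := Nat.Coprime.pow_left v (Nat.coprime_two_left.mpr hq)
  have h2 : 2 ^ v ∣ 2 ^ k := hc.dvd_of_dvd_mul_right h1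
  have hvk : v ≤ k := (Nat.pow_dvd_pow_iff_le_right (by norm_num)).mp h2
  have h3 : 2 ^ k ∣ 3 * 2 ^ v := ⟨q, h⟩
  have hc3 : Nat.Coprime (2 ^ k) 3 := Nat.Coprime.pow_left k (by norm_num)
  have h4 : 2 ^ k ∣ 2 ^ v := hc3.dvd_of_dvd_mul_left h3
  have hkv : k ≤ v := (Nat.pow_dvd_pow_iff_le_right (by norm_num)).mp h4
  have hkv' : k = v := le_antisymm hkv hvk
  subst hkv'
  refine ⟨rfl, ?_⟩
  have hpos : 0 < 2 ^ k := by positivity
  have : 2 ^ k * q = 2 ^ k * 3 := by rw [← h]; ring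
  exact (Nat.eq_of_mul_eq_mul_left hpos this)

/-- numeric contradiction: if `k + 1 = v₂((n-3)!)`, `4 ∣ n - 3`, `7 ≤ n`, then `2 ^ k` does not
divide `(n-4)!`. -/
private theorem na3_not_dvd (n k : ℕ) (hn : n % 4 = 3) (h7 : 7 ≤ n)
    (hk : k + 1 = (n - 3).factorial.factorization 2) :
    ¬ 2 ^ k ∣ (n - 4).factorial := by
  intro hd
  have hF : (n - 4).factorial ≠ 0 := Nat.factorial_ne_zero _
  have h1 : k ≤ (n - 4).factorial.factorization 2 :=
    (Nat.Prime.pow_dvd_iff_le_factorization Nat.prime_two hF).mp hd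
  have h34 : n - 3 = (n - 4) + 1 := by omega
  have hfac : (n - 3).factorial = (n - 3) * (n - 4).factorial := by
    rw [h34, Nat.factorial_succ]
  have hn3 : n - 3 ≠ 0 := by omega
  have h4 : 2 ^ 2 ∣ n - 3 := by
    have : 4 ∣ n - 3 := by omega
    simpa using this
  have h2 : 2 ≤ (n - 3).factorization 2 :=
    (Nat.Prime.pow_dvd_iff_le_factorization Nat.prime_two hn3).mp h4
  have h5 : (n - 3).factorial.factorization 2
      = (n - 3).factorization 2 + (n - 4).factorial.factorization 2 := by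
    rw [hfac, Nat.factorization_mul hn3 hF]; rfl
  omega

theorem alt3_structure (n : ℕ) (hn : n % 4 = 3) (h7 : 7 ≤ n)
    (N : Subgroup (Equiv.Perm (Fin n))) (hN : Group.IsNilpotent N)
    (hcard : 2 * Nat.card N = 3 * 2 ^ ((n - 3).factorial.factorization 2)) :
    ∃ (z : Equiv.Perm (Fin n)) (T : Subgroup (Equiv.Perm (Fin n))),
      z.cycleType = {3} ∧ 2 * Nat.card T = 2 ^ ((n - 3).factorial.factorization 2) ∧
      (∀ t ∈ T, t * z = z * t) ∧ N = T ⊔ Subgroup.zpowers z := by
  classical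
  haveI : Fact (Nat.Prime 2) := ⟨Nat.prime_two⟩
  haveI : Fact (Nat.Prime 3) := ⟨Nat.prime_three⟩
  obtain ⟨P⟩ : Nonempty (Sylow 2 N) := inferInstance
  obtain ⟨Q, hQodd, hcomm, hNPQ⟩ := Cfsg.Agent.Helper3.nil_two_complement hN P
  obtain ⟨k, hk⟩ := (P.isPGroup').exists_card_eq
  have hsplit := na3_card_split ((n - 3).factorial.factorization 2) (k + 1) (Nat.card Q) hQodd
    (by rw [← hcard, hNPQ, hk]; ring)
  obtain ⟨hkv, hQ3⟩ := hsplit
  have hNk : Nat.card N = 3 * 2 ^ k := by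
    rw [hNPQ, hk, hQ3]; ring
  -- an element of order 3 in Q
  obtain ⟨y, hy1⟩ : ∃ y : Q, y ≠ 1 := by
    haveI : Nontrivial Q := by
      rw [← Finite.one_lt_card_iff_nontrivial, hQ3]; norm_num
    exact exists_ne 1
  have hyord : orderOf y = 3 := by
    have h := orderOf_dvd_natCard y
    rw [hQ3] at h
    rcases (Nat.dvd_prime Nat.prime_three).mp h with h1 | h3
    · exact absurd (orderOf_eq_one_iff.mp h1) hy1
    · exact h3
  -- the permutation z
  set z : Equiv.Perm (Fin n) := ((y : N) : Equiv.Perm (Fin n)) with hz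
  have hzord : orderOf z = 3 := by
    rw [hz, Subgroup.orderOf_coe, Subgroup.orderOf_coe, hyord]
  set T : Subgroup (Equiv.Perm (Fin n)) := (P : Subgroup N).map N.subtype with hT
  have hTcard : Nat.card T = 2 ^ k := by
    rw [hT, Subgroup.card_map_of_injective N.subtype_injective]
    exact hk
  have hTcard2 : 2 * Nat.card T = 2 ^ ((n - 3).factorial.factorization 2) := by
    rw [hTcard, ← hkv]; ring
  have hTz : ∀ t ∈ T, t * z = z * t := by
    intro t ht
    rw [hT] at ht
    obtain ⟨x, hx, rfl⟩ := ht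
    have := hcomm x hx (y : N) y.2
    have h2 := congrArg (N.subtype) this
    simpa [hz] using h2
  have hTN : T ≤ N := by
    rw [hT]; exact Subgroup.map_subtype_le _
  have hzN : z ∈ N := (y : N).2
  have hsupN : T ⊔ Subgroup.zpowers z ≤ N :=
    sup_le hTN ((Subgroup.zpowers_le).mpr hzN)
  have hcardsup : Nat.card N ≤ Nat.card (T ⊔ Subgroup.zpowers z : Subgroup _) := by
    have hd1 : Nat.card T ∣ Nat.card (T ⊔ Subgroup.zpowers z : Subgroup _) :=
      Subgroup.card_dvd_of_le le_sup_left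
    have hd2 : Nat.card (Subgroup.zpowers z) ∣ Nat.card (T ⊔ Subgroup.zpowers z : Subgroup _) :=
      Subgroup.card_dvd_of_le le_sup_right
    rw [Nat.card_zpowers, hzord] at hd2
    rw [hTcard] at hd1
    have hc : Nat.Coprime 3 (2 ^ k) := Nat.Coprime.pow_right k (by norm_num)
    have hd := hc.mul_dvd_of_dvd_of_dvd hd2 hd1
    rw [hNk]
    exact Nat.le_of_dvd Nat.card_pos hd
  have hNeq : N = T ⊔ Subgroup.zpowers z :=
    (Subgroup.eq_of_le_of_card_ge hsupN hcardsup).symm
  refine ⟨z, T, ?_, hTcard2, hTz, hNeq⟩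
  -- cycle type
  obtain ⟨j, hj⟩ := Equiv.Perm.cycleType_prime_order (σ := z)
    (by rw [hzord]; exact Nat.prime_three)
  rw [hzord] at hj
  rcases Nat.eq_zero_or_pos j with hj0 | hjpos
  · rw [hj, hj0]; rfl
  exfalso
  have hsum : z.cycleType.sum ≤ Fintype.card (Fin n) := Equiv.Perm.sum_cycleType_le z
  rw [hj, Multiset.sum_replicate, Fintype.card_fin, smul_eq_mul] at hsum
  have hTC : T ≤ Subgroup.centralizer {z} := by
    intro t ht
    rw [Subgroup.mem_centralizer_singleton_iff]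
    exact (hTz t ht)
  have hdvd : Nat.card T ∣ Nat.card (Subgroup.centralizer ({z} : Set (Equiv.Perm (Fin n)))) :=
    Subgroup.card_dvd_of_le hTC
  rw [Equiv.Perm.nat_card_centralizer, hj, hTcard] at hdvd
  have hfs : (Multiset.replicate (j + 1) 3).toFinset = {3} := by
    rw [Multiset.toFinset_replicate]; simp
  rw [hfs, Finset.prod_singleton, Multiset.count_replicate_self, Multiset.sum_replicate,
    Multiset.prod_replicate, Fintype.card_fin, smul_eq_mul] at hdvd
  have hc : Nat.Coprime (2 ^ k) (3 ^ (j + 1)) := Nat.Coprime.pow _ _ (by norm_num)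
  have hd2 : 2 ^ k ∣ (n - (j + 1) * 3).factorial * (j + 1).factorial := by
    have : 2 ^ k ∣ ((n - (j + 1) * 3).factorial * (j + 1).factorial) * 3 ^ (j + 1) := by
      have e : (n - (j + 1) * 3).factorial * 3 ^ (j + 1) * (j + 1).factorial
          = ((n - (j + 1) * 3).factorial * (j + 1).factorial) * 3 ^ (j + 1) := by ring
      rw [← e]; exact hdvd
    exact hc.dvd_of_dvd_mul_right this
  have hd3 : (n - (j + 1) * 3).factorial * (j + 1).factorial ∣
      ((n - (j + 1) * 3) + (j + 1)).factorial :=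
    Nat.factorial_mul_factorial_dvd_factorial_add _ _
  have hle : (n - (j + 1) * 3) + (j + 1) ≤ n - 4 := by omega
  have hd4 : ((n - (j + 1) * 3) + (j + 1)).factorial ∣ (n - 4).factorial :=
    Nat.factorial_dvd_factorial hle
  exact na3_not_dvd n k hn h7 hkv (hd2.trans (hd3.trans hd4))

end Cfsg.Agent.Helper2
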