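import Mathlib
import Cfsg.Agent.Helper6.PiSection
import Cfsg.Agent.Helper2.CharGalois
import Cfsg.Agent.Helper2.CharOrtho
import Cfsg.Agent.Helper2.CharIntegral
import Cfsg.Agent.Helper24.CharInv

set_option autoImplicit false

namespace Cfsg.Agent.Helper2

open Cfsg Polynomial
open scoped ComplexConjugate

universe u v

/-- A complex number which is the common value of an integer polynomial at all primitive `n`-th
roots of unity is an integer. -/
theorem int_of_aeval_primitiveRoots {n : ℕ} (hn : 0 < n) (R : ℤ[X]) (a : ℂ)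
    (h : ∀ η : ℂ, IsPrimitiveRoot η n → aeval η R = a) : ∃ z : ℤ, a = (z : ℂ) := by
  have hmonic : (cyclotomic n ℤ).Monic := cyclotomic.monic n ℤ
  obtain ⟨ρ, hρ⟩ : ∃ ρ : ℤ[X], ρ = R %ₘ cyclotomic n ℤ := ⟨_, rfl⟩
  have hdeg : ρ.natDegree < n.totient := by
    have h1 : cyclotomic n ℤ ≠ 1 := by
      intro h1
      have h2 := natDegree_cyclotomic n ℤ
      rw [h1, natDegree_one] at h2
      exact (Nat.totient_pos.mpr hn).ne h2
    have h3 := natDegree_modByMonic_lt R hmonic h1
    rw [natDegree_cyclotomic] at h3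
    rw [hρ]
    exact h3
  have hval : ∀ η : ℂ, IsPrimitiveRoot η n → aeval η ρ = a := by
    intro η hη
    rw [← h η hη]
    have hdiv := modByMonic_add_div R (cyclotomic n ℤ)
    have h0 : aeval η (cyclotomic n ℤ) = 0 := by
      have h1 := hη.isRoot_cyclotomic hn
      rw [IsRoot.def, ← map_cyclotomic_int n ℂ, eval_map] at h1
      rw [aeval_def]
      exact h1
    conv_rhs => rw [← hdiv]
    rw [map_add, map_mul, h0, zero_mul, add_zero, hρ]
  obtain ⟨f, hf⟩ : ∃ f : ℂ[X], f = ρ.map (Int.castRingHom ℂ) - C a := ⟨_, rfl⟩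
  have hf0 : f = 0 := by
    apply eq_zero_of_natDegree_lt_card_of_eval_eq_zero' f (primitiveRoots n ℂ)
    · intro η hη
      rw [mem_primitiveRoots hn] at hη
      have h1 := hval η hη
      rw [aeval_def] at h1
      rw [hf, eval_sub, eval_C, eval_map]
      rw [show (Int.castRingHom ℂ) = algebraMap ℤ ℂ from rfl, h1, sub_self]
    · rw [Complex.card_primitiveRoots]
      calc f.natDegree ≤ max (ρ.map (Int.castRingHom ℂ)).natDegree (C a).natDegree := by
            rw [hf]; exact natDegree_sub_le _ _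
        _ ≤ ρ.natDegree := by
            rw [natDegree_C, max_eq_left (Nat.zero_le _)]
            exact natDegree_map_le
        _ < n.totient := hdeg
  refine ⟨ρ.coeff 0, ?_⟩
  have h1 := congrArg (fun g : ℂ[X] => g.coeff 0) hf0
  simp only [hf, coeff_sub, coeff_map, coeff_C_zero, coeff_zero] at h1
  have h2 : ((Int.castRingHom ℂ) (ρ.coeff 0)) = ((ρ.coeff 0 : ℤ) : ℂ) := rfl
  rw [h2] at h1
  exact (sub_eq_zero.mp h1).symm

/-- The sum of `|χ(x)|²` over the elements whose order satisfies a given condition is an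
integer. -/
theorem sum_order_normSq_int {G : Type u} [Group G] [Fintype G] {χ : G → ℂ}
    (hχ : IsCharacter G χ) (Q : ℕ → Prop) [DecidablePred Q] :
    ∃ z : ℤ, ∑ x : G, (if Q (orderOf x) then χ x * conj (χ x) else 0) = (z : ℂ) := by
  classical
  have hN : 0 < Nat.card G := Nat.card_pos
  have : NeZero (Nat.card G) := ⟨hN.ne'⟩
  have hζ := Complex.isPrimitiveRoot_exp (Nat.card G) hN.ne'
  obtain ⟨ζ, hζdef⟩ : ∃ ζ : ℂ, ζ = Complex.exp (2 * Real.pi * Complex.I / (Nat.card G : ℂ)) :=
    ⟨_, rfl⟩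
  rw [← hζdef] at hζ
  choose P hP using fun x : G => Helper24.char_poly hχ x (Nat.card G) hN pow_card_eq_one' ζ hζ
  have key := int_of_aeval_primitiveRoots hN
    (∑ x : G, if Q (orderOf x) then P x * (P x).comp (X ^ (Nat.card G - 1)) else 0)
    (∑ x : G, (if Q (orderOf x) then χ x * conj (χ x) else 0)) ?_
  · exact key
  intro η hη
  obtain ⟨k, hk, rfl⟩ := hζ.eq_pow_of_pow_eq_one hη.pow_eq_one
  have hkcop : k.Coprime (Nat.card G) := (hζ.pow_iff_coprime hN k).mp hη
  have hcop' : (Nat.card G).Coprime k := hkcop.symm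
  rw [map_sum]
  rw [← Equiv.sum_comp (powCoprime hcop')
    (fun x => if Q (orderOf x) then χ x * conj (χ x) else 0)]
  apply Finset.sum_congr rfl
  intro x _
  have hord : orderOf (x ^ k) = orderOf x :=
    Nat.Coprime.orderOf_pow (hcop'.coprime_dvd_left (orderOf_dvd_natCard x))
  have hpc : (powCoprime hcop') x = x ^ k := rfl
  rw [hpc, hord]
  split_ifs with hq
  · rw [map_mul, aeval_comp, map_pow, aeval_X, ← hP x k, ← pow_mul,
      ← hP x (k * (Nat.card G - 1))]
    congr 1
    rw [pow_mul, ← Helper24.char_inv hχ]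
    congr 1
    apply eq_inv_of_mul_eq_one_left
    rw [← pow_succ, Nat.sub_add_cancel hN, pow_card_eq_one']
  · simp

set_option maxHeartbeats 800000 in
/-- **Characters of defect zero vanish on `p`-singular elements.** If `p ^ n` is the exact power
of `p` dividing `|G|` and `p ^ n` divides the degree of an irreducible representation, then
its character vanishes at every element of order divisible by `p`. -/
theorem defect_zero_vanish {G : Type u} [Group G] [Finite G] {V : Type v} [AddCommGroup V]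
    [Module ℂ V] [FiniteDimensional ℂ V] (ρ : Representation ℂ G V) [ρ.IsIrreducible]
    (p n : ℕ) (hp : p.Prime) (hn : p ^ n ∣ Nat.card G) (hn' : ¬ p ^ (n + 1) ∣ Nat.card G)
    (hdeg : p ^ n ∣ Module.finrank ℂ V) (x : G) (hx : p ∣ orderOf x) : ρ.character x = 0 := by
  classical
  have := Fintype.ofFinite G
  have := Fintype.ofFinite (ConjClasses G)
  have hirr := isIrrCharacter_of_rep ρ
  have hch := Helper24.isCharacter_of_irr hirr
  have hcf := IsCharacter.isClassFunction hch
  obtain ⟨χ, hχdef⟩ : ∃ χ : G → ℂ, χ = ρ.character := ⟨_, rfl⟩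
  rw [← hχdef] at hirr hch hcf ⊢
  have hnt : Nontrivial V := by
    by_contra hnn
    rw [not_nontrivial_iff_subsingleton] at hnn
    have : (⊥ : Subrepresentation ρ) = ⊤ := by
      apply Subrepresentation.toSubmodule_injective
      exact Subsingleton.elim _ _
    exact bot_ne_top this
  have hdpos : 0 < Module.finrank ℂ V := Module.finrank_pos
  have hχ1 : χ 1 = (Module.finrank ℂ V : ℂ) := by rw [hχdef, Representation.char_one]
  -- n ≥ 1
  have hn1 : 1 ≤ n := by
    by_contra h0
    have hn0 : n = 0 := by omega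
    subst hn0
    apply hn'
    rw [zero_add, pow_one]
    exact hx.trans (orderOf_dvd_natCard x)
  obtain ⟨m₀, hm₀⟩ := hn
  have hcop : Nat.Coprime m₀ (p ^ n) := by
    apply Nat.Coprime.pow_right
    rw [Nat.coprime_comm, hp.coprime_iff_not_dvd]
    intro hpm
    apply hn'
    obtain ⟨t, rfl⟩ := hpm
    rw [hm₀, pow_succ]
    exact ⟨t, by ring⟩
  have hmn : Nat.card G = m₀ * p ^ n := by rw [hm₀, mul_comm]
  have hm₀pos : 0 < m₀ := by
    rcases Nat.eq_zero_or_pos m₀ with h | h
    · rw [h, zero_mul] at hmn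
      exact absurd hmn Nat.card_pos.ne'
    · exact h
  -- the scaled indicator of the p-regular elements
  obtain ⟨ϑ, hϑ⟩ : ∃ ϑ : G → ℂ, ∀ y, ϑ y = if ¬ p ∣ orderOf y then ((p ^ n : ℕ) : ℂ) else 0 :=
    ⟨_, fun _ => rfl⟩
  have hpi := Helper6.PiSection.pi_section m₀ (p ^ n) hmn hcop (1 : G)
    (by rw [orderOf_one]; exact Nat.coprime_one_left _) ϑ
    (by
      rintro y ⟨v, hv, u, rfl, -, hu, -⟩
      have hv1 : v = 1 := isConj_one_left.mp hv
      subst hv1
      rw [hϑ, mul_one, if_pos]
      intro hpu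
      have h1 : p ∣ Nat.gcd (orderOf u) (p ^ n) :=
        Nat.dvd_gcd hpu (dvd_pow_self p (by omega))
      rw [Nat.Coprime] at hu
      rw [hu] at h1
      exact hp.one_lt.ne' (Nat.dvd_one.mp h1))
    (by
      intro y hy
      rw [hϑ, if_neg]
      intro hpy
      apply hy
      refine ⟨1, IsConj.refl _, y, (mul_one y).symm, Commute.one_right y, ?_, ?_⟩
      · apply Nat.Coprime.pow_right
        rw [Nat.coprime_comm, hp.coprime_iff_not_dvd]
        exact hpy
      · rw [orderOf_one]; exact Nat.coprime_one_left _)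
  -- the integer z = ∑ over p-regular elements of |χ|²
  obtain ⟨z, hz⟩ := sum_order_normSq_int hch (fun k => ¬ p ∣ k)
  have hreal : ∀ y : G, χ y * conj (χ y) = ((‖χ y‖ : ℝ) : ℂ) ^ 2 := fun y =>
    Complex.mul_conj' _
  have hb : (z : ℝ) = ∑ y : G, if ¬ p ∣ orderOf y then ‖χ y‖ ^ 2 else 0 := by
    have h1 : ((z : ℝ) : ℂ) = ((∑ y : G, if ¬ p ∣ orderOf y then ‖χ y‖ ^ 2 else 0 : ℝ) : ℂ) := by
      push_cast
      rw [← hz]
      apply Finset.sum_congr rfl
      intro y _
      by_cases h : p ∣ orderOf y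
      · simp [h]
      · simp only [h, not_false_eq_true, if_true]
        rw [hreal]
        push_cast
        rfl
    exact_mod_cast h1
  have hsum := Helper24.irr_norm_sum hirr
  have hz_le : (z : ℝ) ≤ Nat.card G := by
    rw [hb, ← hsum]
    apply Finset.sum_le_sum
    intro y _
    by_cases h : p ∣ orderOf y
    · simp only [h, not_true_eq_false, if_false]
      positivity
    · simp only [h, not_false_eq_true, if_true]
      exact le_refl _
  have hz_pos : 0 < (z : ℝ) := by
    rw [hb]
    have h1 : ‖χ 1‖ ^ 2 ≤ ∑ y : G, if ¬ p ∣ orderOf y then ‖χ y‖ ^ 2 else 0 := by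
      have h2 := Finset.single_le_sum
        (f := fun y : G => if ¬ p ∣ orderOf y then ‖χ y‖ ^ 2 else 0)
        (fun y _ => by split_ifs <;> positivity) (Finset.mem_univ (1 : G))
      simp only [orderOf_one, Nat.dvd_one, hp.ne_one, not_false_eq_true, if_true] at h2
      exact h2
    have h3 : 0 < ‖χ 1‖ ^ 2 := by
      rw [hχ1]
      have : (0 : ℝ) < ‖(Module.finrank ℂ V : ℂ)‖ := by
        rw [Complex.norm_natCast]
        exact_mod_cast hdpos
      positivity
    linarith
  have hG0 : (Nat.card G : ℂ) ≠ 0 := by exact_mod_cast Nat.card_pos.ne'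
  have hm0C : (m₀ : ℂ) ≠ 0 := by exact_mod_cast hm₀pos.ne'
  have hpnC : ((p ^ n : ℕ) : ℂ) ≠ 0 := by exact_mod_cast (pow_pos hp.pos n).ne'
  -- (a) m₀ divides z
  have hA : (m₀ : ℤ) ∣ z := by
    have h1 := hpi.2 _ (IsCharacter.mul (isCharacter_conj hch) hch)
    have h2 : classInner ϑ ((fun y => conj (χ y)) * χ) = (((z : ℚ) / (m₀ : ℚ) : ℚ) : ℂ) := by
      unfold classInner
      have h3 : ∑ g : G, ϑ g * conj (((fun y => conj (χ y)) * χ) g) =
          ((p ^ n : ℕ) : ℂ) * (z : ℂ) := by
        rw [← hz, Finset.mul_sum]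
        apply Finset.sum_congr rfl
        intro y _
        rw [hϑ]
        simp only [Pi.mul_apply, map_mul, Complex.conj_conj]
        by_cases h : p ∣ orderOf y
        · simp [h]
        · simp only [h, not_false_eq_true, if_true]
      rw [h3, hmn]
      have hpn' : ((p : ℂ)) ^ n ≠ 0 := by
        have := hpnC
        push_cast at this
        exact this
      push_cast
      field_simp
    rw [h2] at h1
    obtain ⟨w, hw⟩ := int_of_isIntegral_rat h1
    have hm0Q : (m₀ : ℚ) ≠ 0 := by exact_mod_cast hm₀pos.ne'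
    rw [div_eq_iff hm0Q] at hw
    exact ⟨w, by rw [mul_comm]; exact_mod_cast hw⟩
  -- (b) the degree divides z
  have hB : (Module.finrank ℂ V : ℤ) ∣ z := by
    have hF : IsClassFunction G (fun y => if ¬ p ∣ orderOf y then χ y * conj (χ y) else 0) := by
      intro y c
      have ho : orderOf (c * y * c⁻¹) = orderOf y := (MulAut.conj c).orderOf_eq y
      show (if ¬ p ∣ orderOf (c * y * c⁻¹) then χ (c * y * c⁻¹) * conj (χ (c * y * c⁻¹)) else 0)
        = _
      rw [ho, hcf y c]
    have hdC : (Module.finrank ℂ V : ℂ) ≠ 0 := by exact_mod_cast hdpos.ne'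
    have h1 : IsIntegral ℤ ((z : ℂ) / (Module.finrank ℂ V : ℂ)) := by
      rw [← hz, sum_eq_sum_conjClasses _ hF, Finset.sum_div]
      refine IsIntegral.sum _ fun C _ => ?_
      by_cases hC : p ∣ orderOf (Quotient.out C)
      · simp only [hC, not_true_eq_false, if_false]
        rw [mul_zero, zero_div]
        exact isIntegral_zero
      · simp only [hC, not_false_eq_true, if_true]
        have e : (Nat.card {x : G // IsConj x (Quotient.out C)} : ℂ) *
            (χ (Quotient.out C) * conj (χ (Quotient.out C))) / (Module.finrank ℂ V : ℂ)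
            = ((Nat.card {x : G // IsConj x (Quotient.out C)} : ℂ) * ρ.character (Quotient.out C) /
              (Module.finrank ℂ V : ℂ)) * ρ.character (Quotient.out C)⁻¹ := by
          rw [← hχdef, Helper24.char_inv hch]
          ring
        rw [e]
        exact IsIntegral.mul (isIntegral_card_conj_mul_char_div ρ _) (character_isIntegral ρ _)
    have h2 : ((z : ℂ) / (Module.finrank ℂ V : ℂ)) =
        (((z : ℚ) / (Module.finrank ℂ V : ℚ) : ℚ) : ℂ) := by
      push_cast
      rfl
    rw [h2] at h1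
    obtain ⟨w, hw⟩ := int_of_isIntegral_rat h1
    have hdQ : (Module.finrank ℂ V : ℚ) ≠ 0 := by exact_mod_cast hdpos.ne'
    rw [div_eq_iff hdQ] at hw
    exact ⟨w, by rw [mul_comm]; exact_mod_cast hw⟩
  -- combine
  have hzpos' : 0 < z := by exact_mod_cast hz_pos
  obtain ⟨zn, rfl⟩ : ∃ zn : ℕ, z = (zn : ℤ) := ⟨z.toNat, (Int.toNat_of_nonneg hzpos'.le).symm⟩
  have hA' : m₀ ∣ zn := Int.natCast_dvd_natCast.mp hA
  have hB' : p ^ n ∣ zn := hdeg.trans (Int.natCast_dvd_natCast.mp hB)
  have hdvd : Nat.card G ∣ zn := by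
    rw [hmn]
    exact Nat.Coprime.mul_dvd_of_dvd_of_dvd hcop hA' hB'
  have hznpos : 0 < zn := by exact_mod_cast hzpos'
  have hznle : zn ≤ Nat.card G := by exact_mod_cast hz_le
  have hzn : zn = Nat.card G := Nat.le_antisymm hznle (Nat.le_of_dvd hznpos hdvd)
  -- conclude
  have hsplit : ∑ y : G, ‖χ y‖ ^ 2 =
      (∑ y : G, if ¬ p ∣ orderOf y then ‖χ y‖ ^ 2 else 0) +
      ∑ y : G, if p ∣ orderOf y then ‖χ y‖ ^ 2 else 0 := by
    rw [← Finset.sum_add_distrib]
    apply Finset.sum_congr rfl
    intro y _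
    by_cases h : p ∣ orderOf y
    · simp [h]
    · simp [h]
  have hzero : ∑ y : G, (if p ∣ orderOf y then ‖χ y‖ ^ 2 else 0) = 0 := by
    have h1 : ((zn : ℤ) : ℝ) = (Nat.card G : ℝ) := by rw [hzn]; norm_cast
    rw [hb] at h1
    linarith
  have hterm := (Finset.sum_eq_zero_iff_of_nonneg
    (fun y _ => by split_ifs <;> positivity)).mp hzero x (Finset.mem_univ x)
  rw [if_pos hx] at hterm
  have : ‖χ x‖ = 0 := by
    rcases pow_eq_zero_iff (n := 2) (by norm_num) |>.mp hterm with h
    exact h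
  exact norm_eq_zero.mp this

/-- Character form of `defect_zero_vanish`. -/
theorem irr_defect_zero_vanish {G : Type u} [Group G] [Finite G] {χ : G → ℂ}
    (hχ : IsIrrCharacter G χ) (p n : ℕ) (hp : p.Prime) (hn : p ^ n ∣ Nat.card G)
    (hn' : ¬ p ^ (n + 1) ∣ Nat.card G) (hdeg : p ^ n ∣ charDegree χ) (x : G)
    (hx : p ∣ orderOf x) : χ x = 0 := by
  have hspec := Helper24.charDegree_spec (Helper24.isCharacter_of_irr hχ)
  obtain ⟨k, ρ, hρ, rfl⟩ := hχ
  have h1 : ρ.character 1 = (k : ℂ) := by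
    rw [Representation.char_one]
    simp
  rw [h1] at hspec
  have hk : k = charDegree ρ.character := by exact_mod_cast hspec
  haveI := hρ
  apply defect_zero_vanish ρ p n hp hn hn' _ x hx
  rw [Module.finrank_fintype_fun_eq_card, Fintype.card_fin, hk]
  exact hdeg

end Cfsg.Agent.Helper2
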