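import Mathlib
import Cfsg.Prelude.Def_JordanBlocks

/-! Part P1 of the S2583 sprint: ranks of powers of `J - 1` for the unipotent matrix `J` of a
given Jordan type. -/

open Matrix

namespace Cfsg.Agent.Helper2

/-- entries of the shift matrix `jordanBlock - 1` -/
private theorem jo_shift_apply {F : Type*} [Field F] (n : ℕ) (a b : Fin n) :
    (Cfsg.jordanBlock n F - 1) a b = if (a : ℕ) = (b : ℕ) + 1 then 1 else 0 := by
  simp only [Cfsg.jordanBlock, Matrix.sub_apply, Matrix.of_apply, Matrix.one_apply, Fin.ext_iff]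
  by_cases h1 : (a : ℕ) = b
  · have h2 : ¬ (a : ℕ) = (b : ℕ) + 1 := by omega
    simp [h1]
  · simp [h1]

private theorem jo_shift_pow_apply {F : Type*} [Field F] (n k : ℕ) (a b : Fin n) :
    ((Cfsg.jordanBlock n F - 1) ^ k) a b = if (a : ℕ) = (b : ℕ) + k then 1 else 0 := by
  induction k generalizing a b with
  | zero =>
    simp only [pow_zero, Matrix.one_apply, Fin.ext_iff, add_zero]
  | succ k ih =>
    rw [pow_succ, Matrix.mul_apply]
    by_cases h : (b : ℕ) + 1 < n
    · rw [Finset.sum_eq_single (⟨(b : ℕ) + 1, h⟩ : Fin n)]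
      · rw [ih, jo_shift_apply]
        have e : (b : ℕ) + 1 + k = b + (k + 1) := by omega
        simp [e]
      · intro c _ hc
        rw [jo_shift_apply]
        have h3 : ¬ (c : ℕ) = (b : ℕ) + 1 := fun h' => hc (Fin.ext h')
        simp [h3]
      · intro h'; exact absurd (Finset.mem_univ _) h'
    · rw [Finset.sum_eq_zero]
      · have h3 : ¬ (a : ℕ) = (b : ℕ) + (k + 1) := by have := a.2; omega
        simp [h3]
      · intro c _
        rw [jo_shift_apply]
        have h3 : ¬ (c : ℕ) = (b : ℕ) + 1 := by have := c.2; omega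
        simp [h3]

private theorem jo_type_pow {F : Type*} [Field F] {t : ℕ} (d : Fin t → ℕ) (k : ℕ) :
    (Cfsg.jordanTypeMatrix d F - 1) ^ k
      = Matrix.blockDiagonal' (fun i => (Cfsg.jordanBlock (d i) F - 1) ^ k) := by
  have h1 : Cfsg.jordanTypeMatrix d F - 1
      = Matrix.blockDiagonal' (fun i => Cfsg.jordanBlock (d i) F - 1) := by
    have h2 := Matrix.blockDiagonal'_sub (fun i => Cfsg.jordanBlock (d i) F)
      (fun i => (1 : Matrix (Fin (d i)) (Fin (d i)) F))
    have h3 : Matrix.blockDiagonal' (fun i => (1 : Matrix (Fin (d i)) (Fin (d i)) F))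
        = (1 : Matrix ((i : Fin t) × Fin (d i)) ((i : Fin t) × Fin (d i)) F) :=
      Matrix.blockDiagonal'_one
    rw [h3] at h2
    exact h2.symm
  rw [h1]
  exact (Matrix.blockDiagonal'_pow (fun i => Cfsg.jordanBlock (d i) F - 1) k).symm

/-- the column of `(J - 1)^k` at `(j, b)` with `b + k < d j` is a standard basis vector -/
private theorem jo_col_single {F : Type*} [Field F] {t : ℕ} (d : Fin t → ℕ) (k : ℕ)
    (j : Fin t) (b : Fin (d j)) (h : (b : ℕ) + k < d j) :
    ((Cfsg.jordanTypeMatrix d F - 1) ^ k).col ⟨j, b⟩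
      = Pi.single (⟨j, ⟨(b : ℕ) + k, h⟩⟩ : (i : Fin t) × Fin (d i)) (1 : F) := by
  funext x
  obtain ⟨i, a⟩ := x
  rw [jo_type_pow, Matrix.col_apply, Pi.single_apply]
  by_cases hij : i = j
  · subst hij
    rw [Matrix.blockDiagonal'_apply_eq, jo_shift_pow_apply]
    have e : ((⟨i, a⟩ : (i : Fin t) × Fin (d i)) = ⟨i, ⟨(b : ℕ) + k, h⟩⟩) ↔ (a : ℕ) = (b : ℕ) + k := by
      constructor
      · intro h'
        have := eq_of_heq (Sigma.mk.inj_iff.mp h').2
        rw [this]
      · intro h'
        have : a = ⟨(b : ℕ) + k, h⟩ := Fin.ext h'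
        rw [this]
    by_cases h4 : (a : ℕ) = (b : ℕ) + k
    · rw [if_pos h4, if_pos (e.mpr h4)]
    · rw [if_neg h4, if_neg (fun h' => h4 (e.mp h'))]
  · rw [Matrix.blockDiagonal'_apply_ne _ _ _ hij]
    rw [if_neg]
    intro h'
    exact hij (Sigma.mk.inj_iff.mp h').1

private theorem jo_col_zero {F : Type*} [Field F] {t : ℕ} (d : Fin t → ℕ) (k : ℕ)
    (j : Fin t) (b : Fin (d j)) (h : ¬ (b : ℕ) + k < d j) :
    ((Cfsg.jordanTypeMatrix d F - 1) ^ k).col ⟨j, b⟩ = 0 := by
  funext x
  obtain ⟨i, a⟩ := x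
  rw [jo_type_pow, Matrix.col_apply, Pi.zero_apply]
  by_cases hij : i = j
  · subst hij
    rw [Matrix.blockDiagonal'_apply_eq, jo_shift_pow_apply]
    have h4 : ¬ (a : ℕ) = (b : ℕ) + k := by have := a.2; omega
    rw [if_neg h4]
  · rw [Matrix.blockDiagonal'_apply_ne _ _ _ hij]

private theorem jo_sum_fin (n k : ℕ) :
    (∑ a : Fin n, if k ≤ (a : ℕ) then 1 else 0) = n - k := by
  rw [Fin.sum_univ_eq_sum_range (fun a => if k ≤ a then 1 else 0) n]
  induction n with
  | zero => simp
  | succ n ih =>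
    rw [Finset.sum_range_succ, ih]
    split_ifs <;> omega

theorem jordanType_rank {F : Type*} [Field F] {t : ℕ} (d : Fin t → ℕ) (k : ℕ) :
    ((Cfsg.jordanTypeMatrix d F - 1) ^ k).rank = ∑ i, (d i - k) := by
  classical
  set A := (Cfsg.jordanTypeMatrix d F - 1) ^ k with hA
  let S := {x : (i : Fin t) × Fin (d i) // k ≤ (x.2 : ℕ)}
  let bS : S → ((i : Fin t) × Fin (d i) → F) := fun s => Pi.single s.1 (1 : F)
  have hli : LinearIndependent F bS := by
    have h0 := (Pi.basisFun F ((i : Fin t) × Fin (d i))).linearIndependent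
    have h1 := h0.comp (Subtype.val : S → (i : Fin t) × Fin (d i)) Subtype.val_injective
    convert h1 using 1
    funext s
    simp [bS, Pi.basisFun_apply]
  have hspan : Submodule.span F (Set.range A.col) = Submodule.span F (Set.range bS) := by
    apply le_antisymm
    · rw [Submodule.span_le]
      rintro _ ⟨y, rfl⟩
      obtain ⟨j, b⟩ := y
      by_cases h : (b : ℕ) + k < d j
      · rw [hA, jo_col_single d k j b h]
        exact Submodule.subset_span
          ⟨⟨⟨j, ⟨(b : ℕ) + k, h⟩⟩, Nat.le_add_left _ _⟩, rfl⟩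
      · rw [hA, jo_col_zero d k j b h]
        exact Submodule.zero_mem _
    · rw [Submodule.span_le]
      rintro _ ⟨s, rfl⟩
      obtain ⟨⟨i, a⟩, hs⟩ := s
      have hs' : k ≤ (a : ℕ) := hs
      have hlt : (a : ℕ) - k < d i := lt_of_le_of_lt (Nat.sub_le _ _) a.2
      have h : ((⟨(a : ℕ) - k, hlt⟩ : Fin (d i)) : ℕ) + k < d i := by
        have := a.2
        simp only
        omega
      have key := jo_col_single (F := F) d k i ⟨(a : ℕ) - k, hlt⟩ h
      have e : (⟨((⟨(a : ℕ) - k, hlt⟩ : Fin (d i)) : ℕ) + k, h⟩ : Fin (d i)) = a := by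
        apply Fin.ext
        simp only
        omega
      rw [e] at key
      apply Submodule.subset_span
      exact ⟨⟨i, ⟨(a : ℕ) - k, hlt⟩⟩, key⟩
  rw [Matrix.rank_eq_finrank_span_cols, hspan, finrank_span_eq_card hli]
  rw [Fintype.card_subtype, Finset.card_filter, Fintype.sum_sigma]
  apply Finset.sum_congr rfl
  intro i _
  exact jo_sum_fin (d i) k

end Cfsg.Agent.Helper2
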