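import Mathlib
import Cfsg.Prelude.Def_JordanBlocks

/-! Part P6a of the S2583 sprint: a single Jordan block of odd size is an isometry of a
nondegenerate symmetric form (Cayley transform of the shift matrix). -/

open Matrix

namespace Cfsg.Agent.Helper2

/-- entries of the shift matrix `jordanBlock - 1` -/
private theorem joa_shift_apply {F : Type*} [Field F] (n : ℕ) (a b : Fin n) :
    (Cfsg.jordanBlock n F - 1) a b = if (a : ℕ) = (b : ℕ) + 1 then 1 else 0 := by
  simp only [Cfsg.jordanBlock, Matrix.sub_apply, Matrix.of_apply, Matrix.one_apply, Fin.ext_iff]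
  by_cases h1 : (a : ℕ) = b
  · have h2 : ¬ (a : ℕ) = (b : ℕ) + 1 := by omega
    simp [h1]
  · simp [h1]

private theorem joa_shift_pow_apply {F : Type*} [Field F] (n k : ℕ) (a b : Fin n) :
    ((Cfsg.jordanBlock n F - 1) ^ k) a b = if (a : ℕ) = (b : ℕ) + k then 1 else 0 := by
  induction k generalizing a b with
  | zero =>
    simp only [pow_zero, Matrix.one_apply, Fin.ext_iff, add_zero]
  | succ k ih =>
    rw [pow_succ, Matrix.mul_apply]
    by_cases h : (b : ℕ) + 1 < n
    · rw [Finset.sum_eq_single (⟨(b : ℕ) + 1, h⟩ : Fin n)]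
      · rw [ih, joa_shift_apply]
        have e : (b : ℕ) + 1 + k = b + (k + 1) := by omega
        simp [e]
      · intro c _ hc
        rw [joa_shift_apply]
        have h3 : ¬ (c : ℕ) = (b : ℕ) + 1 := fun h' => hc (Fin.ext h')
        simp [h3]
      · intro h'; exact absurd (Finset.mem_univ _) h'
    · rw [Finset.sum_eq_zero]
      · have h3 : ¬ (a : ℕ) = (b : ℕ) + (k + 1) := by have := a.2; omega
        simp [h3]
      · intro c _
        rw [joa_shift_apply]
        have h3 : ¬ (c : ℕ) = (b : ℕ) + 1 := by have := c.2; omega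
        simp [h3]

private theorem joa_sum_fin (n k : ℕ) :
    (∑ a : Fin n, if k ≤ (a : ℕ) then 1 else 0) = n - k := by
  rw [Fin.sum_univ_eq_sum_range (fun a => if k ≤ a then 1 else 0) n]
  induction n with
  | zero => simp
  | succ n ih =>
    rw [Finset.sum_range_succ, ih]
    split_ifs <;> omega

/-- rank of the powers of the shift matrix -/
private theorem joa_rank {F : Type*} [Field F] (n k : ℕ) :
    ((Cfsg.jordanBlock n F - 1) ^ k).rank = n - k := by
  classical
  obtain ⟨A, hA⟩ : ∃ A, A = (Cfsg.jordanBlock n F - 1) ^ k := ⟨_, rfl⟩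
  rw [← hA]
  let S := {x : Fin n // k ≤ (x : ℕ)}
  let bS : S → (Fin n → F) := fun s => Pi.single s.1 (1 : F)
  have hli : LinearIndependent F bS := by
    have h0 := (Pi.basisFun F (Fin n)).linearIndependent
    have h1 := h0.comp (Subtype.val : S → Fin n) Subtype.val_injective
    convert h1 using 1
    funext s
    simp [bS, Pi.basisFun_apply]
  have hcol1 : ∀ (b : Fin n) (h : (b : ℕ) + k < n),
      A.col b = Pi.single (⟨(b : ℕ) + k, h⟩ : Fin n) (1 : F) := by
    intro b h
    funext a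
    rw [Matrix.col_apply, hA, joa_shift_pow_apply, Pi.single_apply]
    simp only [Fin.ext_iff, Fin.val_mk]
  have hcol0 : ∀ (b : Fin n) (_ : ¬ (b : ℕ) + k < n), A.col b = 0 := by
    intro b h
    funext a
    rw [Matrix.col_apply, hA, joa_shift_pow_apply, Pi.zero_apply]
    have h4 : ¬ (a : ℕ) = (b : ℕ) + k := by have := a.2; omega
    rw [if_neg h4]
  have hspan : Submodule.span F (Set.range A.col) = Submodule.span F (Set.range bS) := by
    apply le_antisymm
    · rw [Submodule.span_le]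
      rintro _ ⟨b, rfl⟩
      by_cases h : (b : ℕ) + k < n
      · rw [hcol1 b h]
        exact Submodule.subset_span ⟨⟨⟨(b : ℕ) + k, h⟩, Nat.le_add_left _ _⟩, rfl⟩
      · rw [hcol0 b h]
        exact Submodule.zero_mem _
    · rw [Submodule.span_le]
      rintro _ ⟨s, rfl⟩
      obtain ⟨a, hs⟩ := s
      have hs' : k ≤ (a : ℕ) := hs
      have hlt : (a : ℕ) - k < n := lt_of_le_of_lt (Nat.sub_le _ _) a.2
      have h : ((⟨(a : ℕ) - k, hlt⟩ : Fin n) : ℕ) + k < n := by
        have := a.2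
        simp only
        omega
      have key := hcol1 ⟨(a : ℕ) - k, hlt⟩ h
      have e : (⟨((⟨(a : ℕ) - k, hlt⟩ : Fin n) : ℕ) + k, h⟩ : Fin n) = a := by
        apply Fin.ext
        simp only
        omega
      rw [e] at key
      apply Submodule.subset_span
      exact ⟨⟨(a : ℕ) - k, hlt⟩, key⟩
  rw [Matrix.rank_eq_finrank_span_cols, hspan, finrank_span_eq_card hli]
  rw [Fintype.card_subtype, Finset.card_filter]
  exact joa_sum_fin n k

theorem odd_block_form {F : Type*} [Field F] (h2 : (2 : F) ≠ 0) (d : ℕ) (hd : Odd d) :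
    ∃ A M : Matrix (Fin d) (Fin d) F, Mᵀ = M ∧ M.det ≠ 0 ∧ Aᵀ * M * A = M ∧
      ∀ k, ((A - 1) ^ k).rank = d - k := by
  classical
  obtain ⟨N, hN⟩ : ∃ N : Matrix (Fin d) (Fin d) F, N = Cfsg.jordanBlock d F - 1 := ⟨_, rfl⟩
  obtain ⟨G, hG⟩ : ∃ G : Matrix (Fin d) (Fin d) F, G = ∑ i ∈ Finset.range d, N ^ i := ⟨_, rfl⟩
  obtain ⟨M, hM⟩ : ∃ M : Matrix (Fin d) (Fin d) F, M = Matrix.of fun a b : Fin d =>
      if (a : ℕ) + (b : ℕ) + 1 = d then (-1 : F) ^ (a : ℕ) else 0 := ⟨_, rfl⟩
  have hNapp : ∀ a b : Fin d, N a b = if (a : ℕ) = (b : ℕ) + 1 then 1 else 0 := by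
    intro a b; rw [hN]; exact joa_shift_apply d a b
  have f1 : N ^ d = 0 := by
    ext a b
    rw [hN, joa_shift_pow_apply]
    have h4 : ¬ (a : ℕ) = (b : ℕ) + d := by have := a.2; omega
    rw [if_neg h4]; rfl
  have f2 : (1 - N) * G = 1 := by
    rw [hG, mul_neg_geom_sum, f1, sub_zero]
  have f3 : G * (1 - N) = 1 := by
    rw [hG, geom_sum_mul_neg, f1, sub_zero]
  have f4 : N * G = G - 1 := by
    have hh := f2
    rw [sub_mul, one_mul] at hh
    rw [← hh]; abel
  have f4' : G * N = G - 1 := by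
    have hh := f3
    rw [mul_sub, mul_one] at hh
    rw [← hh]; abel
  have f5 : Mᵀ = M := by
    ext a b
    simp only [Matrix.transpose_apply, hM, Matrix.of_apply]
    by_cases h : (a : ℕ) + (b : ℕ) + 1 = d
    · have h' : (b : ℕ) + (a : ℕ) + 1 = d := by omega
      rw [if_pos h, if_pos h']
      obtain ⟨m, hm⟩ := hd
      rw [neg_one_pow_eq_pow_mod_two (a : ℕ), neg_one_pow_eq_pow_mod_two (b : ℕ)]
      have e : (a : ℕ) % 2 = (b : ℕ) % 2 := by omega
      rw [e]
    · have h' : ¬ (b : ℕ) + (a : ℕ) + 1 = d := by omega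
      rw [if_neg h, if_neg h']
  have f6 : M * M = 1 := by
    ext a c
    rw [Matrix.mul_apply]
    have ha := a.2
    have hb0 : d - 1 - (a : ℕ) < d := by omega
    rw [Finset.sum_eq_single (⟨d - 1 - (a : ℕ), hb0⟩ : Fin d)]
    · simp only [hM, Matrix.of_apply, Matrix.one_apply, Fin.ext_iff, Fin.val_mk]
      have e1 : (a : ℕ) + (d - 1 - (a : ℕ)) + 1 = d := by omega
      rw [if_pos e1]
      by_cases hac : (a : ℕ) = (c : ℕ)
      · have e2 : d - 1 - (a : ℕ) + (c : ℕ) + 1 = d := by omega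
        rw [if_pos e2, if_pos hac, ← pow_add]
        have hev : Even ((a : ℕ) + (d - 1 - (a : ℕ))) := by
          obtain ⟨m, hm⟩ := hd
          exact ⟨m, by omega⟩
        exact hev.neg_one_pow
      · have e2 : ¬ d - 1 - (a : ℕ) + (c : ℕ) + 1 = d := by omega
        rw [if_neg e2, if_neg hac, mul_zero]
    · intro b _ hb
      have hne : ¬ (a : ℕ) + (b : ℕ) + 1 = d := by
        intro h'
        apply hb
        apply Fin.ext
        simp only
        omega
      simp only [hM, Matrix.of_apply]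
      rw [if_neg hne, zero_mul]
    · intro h'; exact absurd (Finset.mem_univ _) h'
  have L1 : ∀ (X : Matrix (Fin d) (Fin d) F) (a c : Fin d),
      (Nᵀ * X) a c = if h : (a : ℕ) + 1 < d then X ⟨(a : ℕ) + 1, h⟩ c else 0 := by
    intro X a c
    rw [Matrix.mul_apply]
    by_cases h : (a : ℕ) + 1 < d
    · rw [dif_pos h, Finset.sum_eq_single (⟨(a : ℕ) + 1, h⟩ : Fin d)]
      · rw [Matrix.transpose_apply, hNapp]; simp
      · intro b _ hb
        rw [Matrix.transpose_apply, hNapp]
        have hne : ¬ (b : ℕ) = (a : ℕ) + 1 := fun h' => hb (Fin.ext h')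
        rw [if_neg hne, zero_mul]
      · intro h'; exact absurd (Finset.mem_univ _) h'
    · rw [dif_neg h, Finset.sum_eq_zero]
      intro b _
      rw [Matrix.transpose_apply, hNapp]
      have hne : ¬ (b : ℕ) = (a : ℕ) + 1 := by have := b.2; omega
      rw [if_neg hne, zero_mul]
  have L2 : ∀ (X : Matrix (Fin d) (Fin d) F) (a c : Fin d),
      (X * N) a c = if h : (c : ℕ) + 1 < d then X a ⟨(c : ℕ) + 1, h⟩ else 0 := by
    intro X a c
    rw [Matrix.mul_apply]
    by_cases h : (c : ℕ) + 1 < d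
    · rw [dif_pos h, Finset.sum_eq_single (⟨(c : ℕ) + 1, h⟩ : Fin d)]
      · rw [hNapp]; simp
      · intro b _ hb
        rw [hNapp]
        have hne : ¬ (b : ℕ) = (c : ℕ) + 1 := fun h' => hb (Fin.ext h')
        rw [if_neg hne, mul_zero]
      · intro h'; exact absurd (Finset.mem_univ _) h'
    · rw [dif_neg h, Finset.sum_eq_zero]
      intro b _
      rw [hNapp]
      have hne : ¬ (b : ℕ) = (c : ℕ) + 1 := by have := b.2; omega
      rw [if_neg hne, mul_zero]
  have f7 : Nᵀ * M = -(M * N) := by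
    ext a c
    rw [L1, Matrix.neg_apply, L2]
    by_cases h1 : (a : ℕ) + 1 < d <;> by_cases h2' : (c : ℕ) + 1 < d
    · rw [dif_pos h1, dif_pos h2']
      simp only [hM, Matrix.of_apply, Fin.val_mk]
      by_cases h3 : (a : ℕ) + 1 + (c : ℕ) + 1 = d
      · have h3' : (a : ℕ) + ((c : ℕ) + 1) + 1 = d := by omega
        rw [if_pos h3, if_pos h3', pow_succ]; ring
      · have h3' : ¬ (a : ℕ) + ((c : ℕ) + 1) + 1 = d := by omega
        rw [if_neg h3, if_neg h3', neg_zero]
    · rw [dif_pos h1, dif_neg h2']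
      simp only [hM, Matrix.of_apply, Fin.val_mk]
      have h3 : ¬ (a : ℕ) + 1 + (c : ℕ) + 1 = d := by have := c.2; omega
      rw [if_neg h3, neg_zero]
    · rw [dif_neg h1, dif_pos h2']
      simp only [hM, Matrix.of_apply, Fin.val_mk]
      have h3' : ¬ (a : ℕ) + ((c : ℕ) + 1) + 1 = d := by have := a.2; omega
      rw [if_neg h3', neg_zero]
    · rw [dif_neg h1, dif_neg h2', neg_zero]
  obtain ⟨A, hAdef⟩ : ∃ A : Matrix (Fin d) (Fin d) F, A = (1 + N) * G := ⟨_, rfl⟩
  have e1 : (1 + Nᵀ) * M = M * (1 - N) := by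
    rw [add_mul, one_mul, f7, mul_sub, mul_one, sub_eq_add_neg]
  have e2 : M * (1 + N) = (1 - Nᵀ) * M := by
    rw [mul_add, mul_one, sub_mul, one_mul, f7, sub_neg_eq_add]
  have e3 : Gᵀ * (1 - Nᵀ) = 1 := by
    have hh := congrArg Matrix.transpose f2
    rw [Matrix.transpose_mul, Matrix.transpose_sub, Matrix.transpose_one] at hh
    exact hh
  have e4 : (1 - N) * ((1 + N) * G) = 1 + N := by
    have hc : (1 - N) * (1 + N) = (1 + N) * (1 - N) := by noncomm_ring
    rw [← mul_assoc, hc, mul_assoc, f2, mul_one]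
  have f8 : Aᵀ * M * A = M := by
    calc Aᵀ * M * A = Gᵀ * ((1 + Nᵀ) * M) * ((1 + N) * G) := by
          rw [hAdef, Matrix.transpose_mul, Matrix.transpose_add, Matrix.transpose_one]
          simp only [mul_assoc]
      _ = Gᵀ * (M * ((1 - N) * ((1 + N) * G))) := by rw [e1]; simp only [mul_assoc]
      _ = Gᵀ * (M * (1 + N)) := by rw [e4]
      _ = Gᵀ * (1 - Nᵀ) * M := by rw [e2, mul_assoc]
      _ = M := by rw [e3, one_mul]
  have f9 : A - 1 = N * ((2 : F) • G) := by
    rw [hAdef, add_mul, one_mul, Matrix.mul_smul, f4, two_smul]; abel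
  have hHunit : IsUnit ((2 : F) • G).det := by
    apply Matrix.isUnit_det_of_right_inverse (B := (2 : F)⁻¹ • (1 - N))
    rw [Matrix.smul_mul, Matrix.mul_smul, smul_smul, f3, mul_inv_cancel₀ h2, one_smul]
  have hcomm : Commute N ((2 : F) • G) := by
    have hNG : N * G = G * N := by rw [f4, f4']
    show N * ((2 : F) • G) = ((2 : F) • G) * N
    rw [Matrix.mul_smul, Matrix.smul_mul, hNG]
  refine ⟨A, M, f5, ?_, f8, ?_⟩
  · have hu : IsUnit M.det := Matrix.isUnit_det_of_right_inverse f6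
    exact hu.ne_zero
  · intro k
    rw [f9, hcomm.mul_pow]
    rw [Matrix.rank_mul_eq_left_of_isUnit_det _ _ (by rw [Matrix.det_pow]; exact hHunit.pow k)]
    rw [hN]; exact joa_rank d k

end Cfsg.Agent.Helper2
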