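import Mathlib
import Cfsg.Agent.Helper2.U42Data

set_option autoImplicit false

namespace Cfsg.Agent.Helper2

/-! Packed `4 × 4` matrices (16 digits in base `B` of one number) with primitive operations, and
the accessors of the table `u42chunk`. -/

/-- Digit `t` in base `B`. -/
def dgB (B a t : ℕ) : ℕ := Nat.mod (Nat.div a (Nat.pow B t)) B

/-- Packing `n` digits `f t, f (t+1), …` in base `B`. -/
def pkB (f : ℕ → ℕ) (B : ℕ) (n : ℕ) : ℕ → ℕ :=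
  Nat.rec (fun _ => 0) (fun _ ih t => Nat.add (f t) (Nat.mul B (ih (Nat.succ t)))) n

/-- Product of packed matrices, `ent` computing one entry from a row and a column. -/
def pmulB (ent : ℕ → ℕ → ℕ → ℕ → ℕ → ℕ → ℕ → ℕ → ℕ) (B a b : ℕ) : ℕ :=
  pkB (fun t => ent (dgB B a (Nat.mul 4 (Nat.div t 4)))
    (dgB B a (Nat.add (Nat.mul 4 (Nat.div t 4)) 1))
    (dgB B a (Nat.add (Nat.mul 4 (Nat.div t 4)) 2))
    (dgB B a (Nat.add (Nat.mul 4 (Nat.div t 4)) 3))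
    (dgB B b (Nat.mod t 4)) (dgB B b (Nat.add 4 (Nat.mod t 4)))
    (dgB B b (Nat.add 8 (Nat.mod t 4))) (dgB B b (Nat.add 12 (Nat.mod t 4)))) B 16 0

/-- Transpose of a packed matrix. -/
def ptrB (B a : ℕ) : ℕ :=
  pkB (fun t => dgB B a (Nat.add (Nat.mul 4 (Nat.mod t 4)) (Nat.div t 4))) B 16 0

/-- Entrywise map of a packed matrix. -/
def pmapB (g : ℕ → ℕ) (B a : ℕ) : ℕ :=
  pkB (fun t => g (dgB B a t)) B 16 0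

/-- Digit at the place `p`, a power of `B`. -/
def dgP (B a p : ℕ) : ℕ := Nat.mod (Nat.div a p) B

def ent3 (a0 a1 a2 a3 b0 b1 b2 b3 : ℕ) : ℕ :=
  Nat.mod (Nat.add (Nat.add (Nat.add (Nat.mul a0 b0) (Nat.mul a1 b1)) (Nat.mul a2 b2))
    (Nat.mul a3 b3)) 3

def pmul3 (a b : ℕ) : ℕ := pmulB ent3 3 a b

/-- Multiplication of `F₄` on codes, from a table. -/
def tmul4 (x y : ℕ) : ℕ :=
  Nat.land (Nat.shiftRight 2625168384 (Nat.mul 2 (Nat.add (Nat.mul 4 x) y))) 3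

def ent4 (a0 a1 a2 a3 b0 b1 b2 b3 : ℕ) : ℕ :=
  Nat.xor (Nat.xor (Nat.xor (tmul4 a0 b0) (tmul4 a1 b1)) (tmul4 a2 b2)) (tmul4 a3 b3)

def pmul4 (a b : ℕ) : ℕ := pmulB ent4 4 a b

def pmA3 (a : ℕ) : ℕ :=
  (Nat.add (ent3 (dgP 3 a 1) (dgP 3 a 3) (dgP 3 a 9) (dgP 3 a 27) 1 1 0 2)
    (Nat.mul 3 (Nat.add (ent3 (dgP 3 a 1) (dgP 3 a 3) (dgP 3 a 9) (dgP 3 a 27) 0 2 1 0)
    (Nat.mul 3 (Nat.add (ent3 (dgP 3 a 1) (dgP 3 a 3) (dgP 3 a 9) (dgP 3 a 27) 0 0 1 0)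
    (Nat.mul 3 (Nat.add (ent3 (dgP 3 a 1) (dgP 3 a 3) (dgP 3 a 9) (dgP 3 a 27) 0 0 1 2)
    (Nat.mul 3 (Nat.add (ent3 (dgP 3 a 81) (dgP 3 a 243) (dgP 3 a 729) (dgP 3 a 2187) 1 1 0 2)
    (Nat.mul 3 (Nat.add (ent3 (dgP 3 a 81) (dgP 3 a 243) (dgP 3 a 729) (dgP 3 a 2187) 0 2 1 0)
    (Nat.mul 3 (Nat.add (ent3 (dgP 3 a 81) (dgP 3 a 243) (dgP 3 a 729) (dgP 3 a 2187) 0 0 1 0)
    (Nat.mul 3 (Nat.add (ent3 (dgP 3 a 81) (dgP 3 a 243) (dgP 3 a 729) (dgP 3 a 2187) 0 0 1 2)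
    (Nat.mul 3 (Nat.add (ent3 (dgP 3 a 6561) (dgP 3 a 19683) (dgP 3 a 59049) (dgP 3 a 177147) 1 1 0 2)
    (Nat.mul 3 (Nat.add (ent3 (dgP 3 a 6561) (dgP 3 a 19683) (dgP 3 a 59049) (dgP 3 a 177147) 0 2 1 0)
    (Nat.mul 3 (Nat.add (ent3 (dgP 3 a 6561) (dgP 3 a 19683) (dgP 3 a 59049) (dgP 3 a 177147) 0 0 1 0)
    (Nat.mul 3 (Nat.add (ent3 (dgP 3 a 6561) (dgP 3 a 19683) (dgP 3 a 59049) (dgP 3 a 177147) 0 0 1 2)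
    (Nat.mul 3 (Nat.add (ent3 (dgP 3 a 531441) (dgP 3 a 1594323) (dgP 3 a 4782969) (dgP 3 a 14348907) 1 1 0 2)
    (Nat.mul 3 (Nat.add (ent3 (dgP 3 a 531441) (dgP 3 a 1594323) (dgP 3 a 4782969) (dgP 3 a 14348907) 0 2 1 0)
    (Nat.mul 3 (Nat.add (ent3 (dgP 3 a 531441) (dgP 3 a 1594323) (dgP 3 a 4782969) (dgP 3 a 14348907) 0 0 1 0)
    (Nat.mul 3 (ent3 (dgP 3 a 531441) (dgP 3 a 1594323) (dgP 3 a 4782969) (dgP 3 a 14348907) 0 0 1 2)))))))))))))))))))))))))))))))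

def pmB3 (a : ℕ) : ℕ :=
  (Nat.add (ent3 (dgP 3 a 1) (dgP 3 a 3) (dgP 3 a 9) (dgP 3 a 27) 0 0 0 2)
    (Nat.mul 3 (Nat.add (ent3 (dgP 3 a 1) (dgP 3 a 3) (dgP 3 a 9) (dgP 3 a 27) 0 0 2 0)
    (Nat.mul 3 (Nat.add (ent3 (dgP 3 a 1) (dgP 3 a 3) (dgP 3 a 9) (dgP 3 a 27) 0 1 1 2)
    (Nat.mul 3 (Nat.add (ent3 (dgP 3 a 1) (dgP 3 a 3) (dgP 3 a 9) (dgP 3 a 27) 1 0 1 1)
    (Nat.mul 3 (Nat.add (ent3 (dgP 3 a 81) (dgP 3 a 243) (dgP 3 a 729) (dgP 3 a 2187) 0 0 0 2)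
    (Nat.mul 3 (Nat.add (ent3 (dgP 3 a 81) (dgP 3 a 243) (dgP 3 a 729) (dgP 3 a 2187) 0 0 2 0)
    (Nat.mul 3 (Nat.add (ent3 (dgP 3 a 81) (dgP 3 a 243) (dgP 3 a 729) (dgP 3 a 2187) 0 1 1 2)
    (Nat.mul 3 (Nat.add (ent3 (dgP 3 a 81) (dgP 3 a 243) (dgP 3 a 729) (dgP 3 a 2187) 1 0 1 1)
    (Nat.mul 3 (Nat.add (ent3 (dgP 3 a 6561) (dgP 3 a 19683) (dgP 3 a 59049) (dgP 3 a 177147) 0 0 0 2)
    (Nat.mul 3 (Nat.add (ent3 (dgP 3 a 6561) (dgP 3 a 19683) (dgP 3 a 59049) (dgP 3 a 177147) 0 0 2 0)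
    (Nat.mul 3 (Nat.add (ent3 (dgP 3 a 6561) (dgP 3 a 19683) (dgP 3 a 59049) (dgP 3 a 177147) 0 1 1 2)
    (Nat.mul 3 (Nat.add (ent3 (dgP 3 a 6561) (dgP 3 a 19683) (dgP 3 a 59049) (dgP 3 a 177147) 1 0 1 1)
    (Nat.mul 3 (Nat.add (ent3 (dgP 3 a 531441) (dgP 3 a 1594323) (dgP 3 a 4782969) (dgP 3 a 14348907) 0 0 0 2)
    (Nat.mul 3 (Nat.add (ent3 (dgP 3 a 531441) (dgP 3 a 1594323) (dgP 3 a 4782969) (dgP 3 a 14348907) 0 0 2 0)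
    (Nat.mul 3 (Nat.add (ent3 (dgP 3 a 531441) (dgP 3 a 1594323) (dgP 3 a 4782969) (dgP 3 a 14348907) 0 1 1 2)
    (Nat.mul 3 (ent3 (dgP 3 a 531441) (dgP 3 a 1594323) (dgP 3 a 4782969) (dgP 3 a 14348907) 1 0 1 1)))))))))))))))))))))))))))))))

def pmA4 (a : ℕ) : ℕ :=
  (Nat.add (ent4 (dgP 4 a 1) (dgP 4 a 4) (dgP 4 a 16) (dgP 4 a 64) 0 0 1 0)
    (Nat.mul 4 (Nat.add (ent4 (dgP 4 a 1) (dgP 4 a 4) (dgP 4 a 16) (dgP 4 a 64) 0 1 0 0)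
    (Nat.mul 4 (Nat.add (ent4 (dgP 4 a 1) (dgP 4 a 4) (dgP 4 a 16) (dgP 4 a 64) 1 0 0 0)
    (Nat.mul 4 (Nat.add (ent4 (dgP 4 a 1) (dgP 4 a 4) (dgP 4 a 16) (dgP 4 a 64) 0 0 0 1)
    (Nat.mul 4 (Nat.add (ent4 (dgP 4 a 256) (dgP 4 a 1024) (dgP 4 a 4096) (dgP 4 a 16384) 0 0 1 0)
    (Nat.mul 4 (Nat.add (ent4 (dgP 4 a 256) (dgP 4 a 1024) (dgP 4 a 4096) (dgP 4 a 16384) 0 1 0 0)
    (Nat.mul 4 (Nat.add (ent4 (dgP 4 a 256) (dgP 4 a 1024) (dgP 4 a 4096) (dgP 4 a 16384) 1 0 0 0)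
    (Nat.mul 4 (Nat.add (ent4 (dgP 4 a 256) (dgP 4 a 1024) (dgP 4 a 4096) (dgP 4 a 16384) 0 0 0 1)
    (Nat.mul 4 (Nat.add (ent4 (dgP 4 a 65536) (dgP 4 a 262144) (dgP 4 a 1048576) (dgP 4 a 4194304) 0 0 1 0)
    (Nat.mul 4 (Nat.add (ent4 (dgP 4 a 65536) (dgP 4 a 262144) (dgP 4 a 1048576) (dgP 4 a 4194304) 0 1 0 0)
    (Nat.mul 4 (Nat.add (ent4 (dgP 4 a 65536) (dgP 4 a 262144) (dgP 4 a 1048576) (dgP 4 a 4194304) 1 0 0 0)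
    (Nat.mul 4 (Nat.add (ent4 (dgP 4 a 65536) (dgP 4 a 262144) (dgP 4 a 1048576) (dgP 4 a 4194304) 0 0 0 1)
    (Nat.mul 4 (Nat.add (ent4 (dgP 4 a 16777216) (dgP 4 a 67108864) (dgP 4 a 268435456) (dgP 4 a 1073741824) 0 0 1 0)
    (Nat.mul 4 (Nat.add (ent4 (dgP 4 a 16777216) (dgP 4 a 67108864) (dgP 4 a 268435456) (dgP 4 a 1073741824) 0 1 0 0)
    (Nat.mul 4 (Nat.add (ent4 (dgP 4 a 16777216) (dgP 4 a 67108864) (dgP 4 a 268435456) (dgP 4 a 1073741824) 1 0 0 0)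
    (Nat.mul 4 (ent4 (dgP 4 a 16777216) (dgP 4 a 67108864) (dgP 4 a 268435456) (dgP 4 a 1073741824) 0 0 0 1)))))))))))))))))))))))))))))))

def pmB4 (a : ℕ) : ℕ :=
  (Nat.add (ent4 (dgP 4 a 1) (dgP 4 a 4) (dgP 4 a 16) (dgP 4 a 64) 0 3 1 2)
    (Nat.mul 4 (Nat.add (ent4 (dgP 4 a 1) (dgP 4 a 4) (dgP 4 a 16) (dgP 4 a 64) 0 3 2 1)
    (Nat.mul 4 (Nat.add (ent4 (dgP 4 a 1) (dgP 4 a 4) (dgP 4 a 16) (dgP 4 a 64) 2 0 0 0)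
    (Nat.mul 4 (Nat.add (ent4 (dgP 4 a 1) (dgP 4 a 4) (dgP 4 a 16) (dgP 4 a 64) 0 2 2 2)
    (Nat.mul 4 (Nat.add (ent4 (dgP 4 a 256) (dgP 4 a 1024) (dgP 4 a 4096) (dgP 4 a 16384) 0 3 1 2)
    (Nat.mul 4 (Nat.add (ent4 (dgP 4 a 256) (dgP 4 a 1024) (dgP 4 a 4096) (dgP 4 a 16384) 0 3 2 1)
    (Nat.mul 4 (Nat.add (ent4 (dgP 4 a 256) (dgP 4 a 1024) (dgP 4 a 4096) (dgP 4 a 16384) 2 0 0 0)
    (Nat.mul 4 (Nat.add (ent4 (dgP 4 a 256) (dgP 4 a 1024) (dgP 4 a 4096) (dgP 4 a 16384) 0 2 2 2)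
    (Nat.mul 4 (Nat.add (ent4 (dgP 4 a 65536) (dgP 4 a 262144) (dgP 4 a 1048576) (dgP 4 a 4194304) 0 3 1 2)
    (Nat.mul 4 (Nat.add (ent4 (dgP 4 a 65536) (dgP 4 a 262144) (dgP 4 a 1048576) (dgP 4 a 4194304) 0 3 2 1)
    (Nat.mul 4 (Nat.add (ent4 (dgP 4 a 65536) (dgP 4 a 262144) (dgP 4 a 1048576) (dgP 4 a 4194304) 2 0 0 0)
    (Nat.mul 4 (Nat.add (ent4 (dgP 4 a 65536) (dgP 4 a 262144) (dgP 4 a 1048576) (dgP 4 a 4194304) 0 2 2 2)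
    (Nat.mul 4 (Nat.add (ent4 (dgP 4 a 16777216) (dgP 4 a 67108864) (dgP 4 a 268435456) (dgP 4 a 1073741824) 0 3 1 2)
    (Nat.mul 4 (Nat.add (ent4 (dgP 4 a 16777216) (dgP 4 a 67108864) (dgP 4 a 268435456) (dgP 4 a 1073741824) 0 3 2 1)
    (Nat.mul 4 (Nat.add (ent4 (dgP 4 a 16777216) (dgP 4 a 67108864) (dgP 4 a 268435456) (dgP 4 a 1073741824) 2 0 0 0)
    (Nat.mul 4 (ent4 (dgP 4 a 16777216) (dgP 4 a 67108864) (dgP 4 a 268435456) (dgP 4 a 1073741824) 0 2 2 2)))))))))))))))))))))))))))))))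

theorem pmA3_eq (a : ℕ) : pmA3 a = pmul3 a 30017143 := rfl

theorem pmB3_eq (a : ℕ) : pmB3 a = pmul3 a 25254045 := rfl

theorem pmA4_eq (a : ℕ) : pmA4 a = pmul4 a 1073808400 := rfl

theorem pmB4_eq (a : ℕ) : pmB4 a = pmul4 a 2257162016 := rfl

/-- Evaluate `v` first, then pass it on. -/
def natLet (v : ℕ) (f : ℕ → Bool) : Bool :=
  Nat.rec (f 0) (fun n _ => f n) (Nat.succ v)

theorem natLet_eq (v : ℕ) (f : ℕ → Bool) : natLet v f = f v := rfl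

/-- Record `i` of the table. -/
def u42rec (i : ℕ) : ℕ :=
  Nat.land (Nat.shiftRight (u42chunk (Nat.shiftRight i 6)) (Nat.mul 112 (Nat.land i 63)))
    5192296858534827628530496329220095

def rkey (r : ℕ) : ℕ := Nat.land r 67108863

def rval (r : ℕ) : ℕ := Nat.land (Nat.shiftRight r 26) 4294967295

def rnA (r : ℕ) : ℕ := Nat.land (Nat.shiftRight r 58) 65535

def rnB (r : ℕ) : ℕ := Nat.land (Nat.shiftRight r 74) 65535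

def rpar (r : ℕ) : ℕ := Nat.land (Nat.shiftRight r 90) 65535

def rdep (r : ℕ) : ℕ := Nat.shiftRight r 106

/-- The check of the record `r` of `i`, given the records of its two successors, of its parent
and of `i + 1`. -/
def u42chkR (i r rA rB rP rS : ℕ) : Bool :=
  Nat.blt (rkey r) 43046721 &&
  Nat.blt (rval r) 4294967296 &&
  (Nat.ble 51839 i || Nat.blt (rkey r) (rkey rS)) &&
  Nat.blt (rnA r) 51840 &&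
  Nat.blt (rnB r) 51840 &&
  Nat.beq (rkey rA) (pmA3 (rkey r)) &&
  Nat.beq (rval rA) (pmA4 (rval r)) &&
  Nat.beq (rkey rB) (pmB3 (rkey r)) &&
  Nat.beq (rval rB) (pmB4 (rval r)) &&
  (Nat.beq i 16902 || (Nat.blt (rpar r) 51840 && Nat.blt (rdep rP) (rdep r) &&
    (Nat.beq (rnA rP) i || Nat.beq (rnB rP) i))) &&
  (!(Nat.beq (rval r) 1074791425) || Nat.beq i 16902 || Nat.beq i 34479)

def u42chk (i : ℕ) : Bool :=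
  natLet (u42rec i) fun r => natLet (u42rec (rnA r)) fun rA =>
    natLet (u42rec (rnB r)) fun rB => natLet (u42rec (rpar r)) fun rP =>
      natLet (u42rec (Nat.succ i)) fun rS => u42chkR i r rA rB rP rS

/-- All of `f lo, …, f (lo + n - 1)` hold. -/
def allB (f : ℕ → Bool) (lo n : ℕ) : Bool :=
  Nat.rec true (fun k ih => f (Nat.add lo k) && ih) n

end Cfsg.Agent.Helper2
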