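import Mathlib
import Cfsg.Agent.Helper2.U42Codes
import Cfsg.Agent.Helper2.M21Data

set_option autoImplicit false

namespace Cfsg.Agent.Helper2

/-! Packed `3 × 3` matrices over `F₄`, packed maps of the 24 points (5 bits each), and the
accessors of the table `m21chunk`. -/

def ent43 (a0 a1 a2 b0 b1 b2 : ℕ) : ℕ :=
  Nat.xor (Nat.xor (tmul4 a0 b0) (tmul4 a1 b1)) (tmul4 a2 b2)

/-- Product of packed `3 × 3` matrices, `ent` computing one entry from a row and a column. -/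
def pmulB3 (ent : ℕ → ℕ → ℕ → ℕ → ℕ → ℕ → ℕ) (B a b : ℕ) : ℕ :=
  pkB (fun t => ent (dgB B a (Nat.mul 3 (Nat.div t 3)))
    (dgB B a (Nat.add (Nat.mul 3 (Nat.div t 3)) 1))
    (dgB B a (Nat.add (Nat.mul 3 (Nat.div t 3)) 2))
    (dgB B b (Nat.mod t 3)) (dgB B b (Nat.add 3 (Nat.mod t 3)))
    (dgB B b (Nat.add 6 (Nat.mod t 3)))) B 9 0

def pmul43 (a b : ℕ) : ℕ := pmulB3 ent43 4 a b

/-- Composition of packed maps of the 24 points: first `U`, then `T`. -/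
def pcomp (T U : ℕ) : ℕ := pkB (fun i => dgB 32 T (dgB 32 U i)) 32 24 0

def pm3A (a : ℕ) : ℕ :=
  (Nat.add (ent43 (dgP 4 a 1) (dgP 4 a 4) (dgP 4 a 16) 1 0 0)
    (Nat.mul 4 (Nat.add (ent43 (dgP 4 a 1) (dgP 4 a 4) (dgP 4 a 16) 1 1 0)
    (Nat.mul 4 (Nat.add (ent43 (dgP 4 a 1) (dgP 4 a 4) (dgP 4 a 16) 0 0 1)
    (Nat.mul 4 (Nat.add (ent43 (dgP 4 a 64) (dgP 4 a 256) (dgP 4 a 1024) 1 0 0)
    (Nat.mul 4 (Nat.add (ent43 (dgP 4 a 64) (dgP 4 a 256) (dgP 4 a 1024) 1 1 0)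
    (Nat.mul 4 (Nat.add (ent43 (dgP 4 a 64) (dgP 4 a 256) (dgP 4 a 1024) 0 0 1)
    (Nat.mul 4 (Nat.add (ent43 (dgP 4 a 4096) (dgP 4 a 16384) (dgP 4 a 65536) 1 0 0)
    (Nat.mul 4 (Nat.add (ent43 (dgP 4 a 4096) (dgP 4 a 16384) (dgP 4 a 65536) 1 1 0)
    (Nat.mul 4 (ent43 (dgP 4 a 4096) (dgP 4 a 16384) (dgP 4 a 65536) 0 0 1)))))))))))))))))

def pm3B (a : ℕ) : ℕ :=
  (Nat.add (ent43 (dgP 4 a 1) (dgP 4 a 4) (dgP 4 a 16) 0 2 0)
    (Nat.mul 4 (Nat.add (ent43 (dgP 4 a 1) (dgP 4 a 4) (dgP 4 a 16) 0 0 3)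
    (Nat.mul 4 (Nat.add (ent43 (dgP 4 a 1) (dgP 4 a 4) (dgP 4 a 16) 1 0 1)
    (Nat.mul 4 (Nat.add (ent43 (dgP 4 a 64) (dgP 4 a 256) (dgP 4 a 1024) 0 2 0)
    (Nat.mul 4 (Nat.add (ent43 (dgP 4 a 64) (dgP 4 a 256) (dgP 4 a 1024) 0 0 3)
    (Nat.mul 4 (Nat.add (ent43 (dgP 4 a 64) (dgP 4 a 256) (dgP 4 a 1024) 1 0 1)
    (Nat.mul 4 (Nat.add (ent43 (dgP 4 a 4096) (dgP 4 a 16384) (dgP 4 a 65536) 0 2 0)
    (Nat.mul 4 (Nat.add (ent43 (dgP 4 a 4096) (dgP 4 a 16384) (dgP 4 a 65536) 0 0 3)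
    (Nat.mul 4 (ent43 (dgP 4 a 4096) (dgP 4 a 16384) (dgP 4 a 65536) 1 0 1)))))))))))))))))

def pcA (a : ℕ) : ℕ :=
  (Nat.add (dgP 32 a 1)
    (Nat.mul 32 (Nat.add (dgP 32 a 32)
    (Nat.mul 32 (Nat.add (dgP 32 a 1024)
    (Nat.mul 32 (Nat.add (dgP 32 a 32768)
    (Nat.mul 32 (Nat.add (dgP 32 a 1048576)
    (Nat.mul 32 (Nat.add (dgP 32 a 1073741824)
    (Nat.mul 32 (Nat.add (dgP 32 a 33554432)
    (Nat.mul 32 (Nat.add (dgP 32 a 34359738368)
    (Nat.mul 32 (Nat.add (dgP 32 a 1237940039285380274899124224)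
    (Nat.mul 32 (Nat.add (dgP 32 a 1180591620717411303424)
    (Nat.mul 32 (Nat.add (dgP 32 a 1125899906842624)
    (Nat.mul 32 (Nat.add (dgP 32 a 41538374868278621028243970633760768)
    (Nat.mul 32 (Nat.add (dgP 32 a 1152921504606846976)
    (Nat.mul 32 (Nat.add (dgP 32 a 37778931862957161709568)
    (Nat.mul 32 (Nat.add (dgP 32 a 35184372088832)
    (Nat.mul 32 (Nat.add (dgP 32 a 36893488147419103232)
    (Nat.mul 32 (Nat.add (dgP 32 a 40564819207303340847894502572032)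
    (Nat.mul 32 (Nat.add (dgP 32 a 1298074214633706907132624082305024)
    (Nat.mul 32 (Nat.add (dgP 32 a 1099511627776)
    (Nat.mul 32 (Nat.add (dgP 32 a 1267650600228229401496703205376)
    (Nat.mul 32 (Nat.add (dgP 32 a 39614081257132168796771975168)
    (Nat.mul 32 (Nat.add (dgP 32 a 1208925819614629174706176)
    (Nat.mul 32 (Nat.add (dgP 32 a 38685626227668133590597632)
    (Nat.mul 32 (dgP 32 a 36028797018963968)))))))))))))))))))))))))))))))))))))))))))))))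

def pcB (a : ℕ) : ℕ :=
  (Nat.add (dgP 32 a 1)
    (Nat.mul 32 (Nat.add (dgP 32 a 32)
    (Nat.mul 32 (Nat.add (dgP 32 a 1024)
    (Nat.mul 32 (Nat.add (dgP 32 a 1237940039285380274899124224)
    (Nat.mul 32 (Nat.add (dgP 32 a 34359738368)
    (Nat.mul 32 (Nat.add (dgP 32 a 38685626227668133590597632)
    (Nat.mul 32 (Nat.add (dgP 32 a 40564819207303340847894502572032)
    (Nat.mul 32 (Nat.add (dgP 32 a 1180591620717411303424)
    (Nat.mul 32 (Nat.add (dgP 32 a 39614081257132168796771975168)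
    (Nat.mul 32 (Nat.add (dgP 32 a 36893488147419103232)
    (Nat.mul 32 (Nat.add (dgP 32 a 1298074214633706907132624082305024)
    (Nat.mul 32 (Nat.add (dgP 32 a 32768)
    (Nat.mul 32 (Nat.add (dgP 32 a 37778931862957161709568)
    (Nat.mul 32 (Nat.add (dgP 32 a 36028797018963968)
    (Nat.mul 32 (Nat.add (dgP 32 a 1073741824)
    (Nat.mul 32 (Nat.add (dgP 32 a 1048576)
    (Nat.mul 32 (Nat.add (dgP 32 a 33554432)
    (Nat.mul 32 (Nat.add (dgP 32 a 1125899906842624)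
    (Nat.mul 32 (Nat.add (dgP 32 a 1099511627776)
    (Nat.mul 32 (Nat.add (dgP 32 a 35184372088832)
    (Nat.mul 32 (Nat.add (dgP 32 a 41538374868278621028243970633760768)
    (Nat.mul 32 (Nat.add (dgP 32 a 1152921504606846976)
    (Nat.mul 32 (Nat.add (dgP 32 a 1267650600228229401496703205376)
    (Nat.mul 32 (dgP 32 a 1208925819614629174706176)))))))))))))))))))))))))))))))))))))))))))))))

theorem pm3A_eq (a : ℕ) : pm3A a = pmul43 a 65797 := rfl

theorem pm3B_eq (a : ℕ) : pm3B a = pmul43 a 114832 := rfl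

theorem pcA_eq (a : ℕ) : pcA a = pcomp a 479663310730678034207776437455390752 := rfl

theorem pcB_eq (a : ℕ) : pcB a = pcomp a 691091782802736106340984326467422240 := rfl

/-- Record `i` of the table. -/
def m21rec (i : ℕ) : ℕ :=
  Nat.land (Nat.shiftRight (m21chunk (Nat.shiftRight i 6)) (Nat.mul 192 (Nat.land i 63)))
    6277101735386680763835789423207666416102355444464034512895

def mkey (r : ℕ) : ℕ := Nat.land r 262143

def mval (r : ℕ) : ℕ := Nat.land (Nat.shiftRight r 18) 1329227995784915872903807060280344575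

def mnA (r : ℕ) : ℕ := Nat.land (Nat.shiftRight r 138) 65535

def mnB (r : ℕ) : ℕ := Nat.land (Nat.shiftRight r 154) 65535

def mpar (r : ℕ) : ℕ := Nat.land (Nat.shiftRight r 170) 65535

def mdep (r : ℕ) : ℕ := Nat.shiftRight r 186

/-- The check of the record `r` of `i`, given the records of its two successors, of its parent
and of `i + 1`. -/
def m21chkR (i r rA rB rP rS : ℕ) : Bool :=
  Nat.blt (mkey r) 262144 &&
  Nat.blt (mval r) 1329227995784915872903807060280344576 &&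
  (Nat.ble 60479 i || Nat.blt (mkey r) (mkey rS)) &&
  Nat.blt (mnA r) 60480 &&
  Nat.blt (mnB r) 60480 &&
  Nat.beq (mkey rA) (pm3A (mkey r)) &&
  Nat.beq (mval rA) (pcA (mval r)) &&
  Nat.beq (mkey rB) (pm3B (mkey r)) &&
  Nat.beq (mval rB) (pcB (mval r)) &&
  (Nat.beq i 14448 || (Nat.blt (mpar r) 60480 && Nat.blt (mdep rP) (mdep r) &&
    (Nat.beq (mnA rP) i || Nat.beq (mnB rP) i))) &&
  (!(Nat.beq (mval r) 984818244535754528103549039458486304) || Nat.beq i 14448 ||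
    Nat.beq i 29872 || Nat.beq i 45296)

def m21chk (i : ℕ) : Bool :=
  natLet (m21rec i) fun r => natLet (m21rec (mnA r)) fun rA =>
    natLet (m21rec (mnB r)) fun rB => natLet (m21rec (mpar r)) fun rP =>
      natLet (m21rec (Nat.succ i)) fun rS => m21chkR i r rA rB rP rS

end Cfsg.Agent.Helper2
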