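import Cfsg.Agent.Helper2.Dihedral
import Cfsg.Prelude.Def_Involutions

set_option autoImplicit false

namespace Cfsg.Agent.Helper2

open Cfsg

theorem odd_card_iff_no_involution {G : Type*} [Group G] [Finite G] (K : Subgroup G) :
    Odd (Nat.card K) ↔ ∀ s ∈ K, orderOf s ≠ 2 := by
  constructor
  · intro hodd s hs h2
    have h1 : orderOf (⟨s, hs⟩ : K) = 2 := by rw [Subgroup.orderOf_mk]; exact h2
    have h3 : 2 ∣ Nat.card K := by rw [← h1]; exact orderOf_dvd_natCard _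
    rw [Nat.odd_iff] at hodd
    omega
  · intro h
    by_contra hne
    rw [Nat.not_odd_iff_even] at hne
    have : Fact (Nat.Prime 2) := ⟨Nat.prime_two⟩
    obtain ⟨z, hz⟩ := exists_prime_orderOf_dvd_card' 2 hne.two_dvd
    exact h z.1 z.2 (by rw [Subgroup.orderOf_coe]; exact hz)

theorem mem_inf_map_conj {G : Type*} [Group G] (H : Subgroup G) (g s : G) :
    s ∈ H ⊓ H.map (MulAut.conj g).toMonoidHom ↔ s ∈ H ∧ g⁻¹ * s * g ∈ H := by
  rw [Subgroup.mem_inf, Subgroup.mem_map]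
  constructor
  · rintro ⟨h1, h, hh, rfl⟩
    refine ⟨h1, ?_⟩
    simp only [MulEquiv.coe_toMonoidHom, MulAut.conj_apply]
    have : g⁻¹ * (g * h * g⁻¹) * g = h := by group
    rw [this]; exact hh
  · rintro ⟨h1, h2⟩
    refine ⟨h1, g⁻¹ * s * g, h2, ?_⟩
    simp only [MulEquiv.coe_toMonoidHom, MulAut.conj_apply]
    group

theorem stronglyEmbedded_iff {G : Type*} [Group G] [Finite G] (H : Subgroup G) (hH : H ≠ ⊤)
    (heven : Even (Nat.card H)) :
    IsStronglyEmbedded H ↔ ∀ g : G, g ∉ H → ∀ s ∈ H, orderOf s = 2 → g⁻¹ * s * g ∉ H := by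
  unfold IsStronglyEmbedded
  constructor
  · rintro ⟨-, -, h⟩ g hg s hs hs2 hgs
    exact (odd_card_iff_no_involution _).1 (h g hg) s ((mem_inf_map_conj H g s).2 ⟨hs, hgs⟩) hs2
  · intro h
    refine ⟨hH, heven, fun g hg => ?_⟩
    rw [odd_card_iff_no_involution]
    intro s hs hs2
    rw [mem_inf_map_conj] at hs
    exact h g hg s hs.1 hs2 hs.2

end Cfsg.Agent.Helper2
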