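import Mathlib

set_option autoImplicit false

namespace Cfsg.Agent.Helper2

/-! Subgroups generated by finitely many involutions, described by a table of right multiples
in a monoid model; isomorphisms between two such subgroups with the same table. -/

/-- Induction along a table of right multiples by `K` generators reached from the root. -/
theorem tabK_ind (K N root : ℕ) (P : ℕ → Prop) (nxt : ℕ → ℕ → ℕ) (par dep : ℕ → ℕ) (h1 : P root)
    (hnxt : ∀ k, k < K → ∀ i, i < N → P i → P (nxt k i))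
    (hpar : ∀ i, i < N → i ≠ root → par i < N ∧ dep (par i) < dep i ∧
      ∃ k, k < K ∧ nxt k (par i) = i) :
    ∀ i, i < N → P i := by
  have key : ∀ d i, i < N → dep i = d → P i := by
    intro d
    induction d using Nat.strong_induction_on with
    | _ d ih =>
      intro i hi hd
      by_cases hr : i = root
      · rw [hr]
        exact h1
      · obtain ⟨hp, hdp, k, hk, h⟩ := hpar i hi hr
        have hpmem := ih (dep (par i)) (hd ▸ hdp) (par i) hp rfl
        have := hnxt k hk (par i) hp hpmem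
        rwa [h] at this
  intro i hi
  exact key _ i hi rfl

/-- The elements of the subgroup generated by `K` involutions are listed by the table. -/
theorem tabK_closure {G M : Type*} [Group G] [Monoid M] (ι : G →* M) (hι : Function.Injective ι)
    (K N root : ℕ) (c : ℕ → M) (nxt : ℕ → ℕ → ℕ) (par dep : ℕ → ℕ) (A : ℕ → G)
    (hroot : root < N) (h1 : c root = 1)
    (hinj : ∀ i j, i < N → j < N → c i = c j → i = j)
    (hnxt : ∀ k, k < K → ∀ i, i < N → nxt k i < N ∧ c (nxt k i) = c i * ι (A k))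
    (hpar : ∀ i, i < N → i ≠ root → par i < N ∧ dep (par i) < dep i ∧
      ∃ k, k < K ∧ nxt k (par i) = i)
    (hinv : ∀ k, k < K → A k * A k = 1) :
    ∃ el : ℕ → ↥(Subgroup.closure {g | ∃ k, k < K ∧ g = A k}),
      (∀ i, i < N → ι ((el i : ↥(Subgroup.closure {g | ∃ k, k < K ∧ g = A k})) : G) = c i) ∧
      (∀ g, ∃ i, i < N ∧ el i = g) ∧ (∀ i j, i < N → j < N → el i = el j → i = j) := by
  classical
  have hAmem : ∀ k, k < K → A k ∈ Subgroup.closure {g | ∃ k, k < K ∧ g = A k} :=
    fun k hk => Subgroup.subset_closure ⟨k, hk, rfl⟩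
  have step1 : ∀ i, i < N → ∃ g : ↥(Subgroup.closure {g | ∃ k, k < K ∧ g = A k}),
      ι (g : G) = c i := by
    apply tabK_ind K N root (fun i => ∃ g : ↥(Subgroup.closure {g | ∃ k, k < K ∧ g = A k}),
      ι (g : G) = c i) nxt par dep
    · exact ⟨1, by rw [h1]; exact map_one ι⟩
    · intro k hk i hi ⟨g, hg⟩
      refine ⟨g * ⟨A k, hAmem k hk⟩, ?_⟩
      rw [(hnxt k hk i hi).2, ← hg]
      exact map_mul ι _ _
    · exact hpar
  have hex : ∀ i, ∃ g : ↥(Subgroup.closure {g | ∃ k, k < K ∧ g = A k}),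
      i < N → ι (g : G) = c i := by
    intro i
    by_cases hi : i < N
    · obtain ⟨g, hg⟩ := step1 i hi
      exact ⟨g, fun _ => hg⟩
    · exact ⟨1, fun h => absurd h hi⟩
  choose el hel using hex
  have step2 : ∀ g : G, g ∈ Subgroup.closure {g | ∃ k, k < K ∧ g = A k} →
      ∀ i, i < N → ∃ j, j < N ∧ c i * ι g = c j := by
    intro g hg
    induction hg using Subgroup.closure_induction'' with
    | mem x hx =>
      obtain ⟨k, hk, rfl⟩ := hx
      intro i hi
      exact ⟨nxt k i, (hnxt k hk i hi).1, (hnxt k hk i hi).2.symm⟩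
    | inv_mem x hx =>
      obtain ⟨k, hk, rfl⟩ := hx
      intro i hi
      have e : (A k)⁻¹ = A k := inv_eq_of_mul_eq_one_left (hinv k hk)
      rw [e]
      exact ⟨nxt k i, (hnxt k hk i hi).1, (hnxt k hk i hi).2.symm⟩
    | one =>
      intro i hi
      exact ⟨i, hi, by rw [map_one, mul_one]⟩
    | mul x y _ _ hx hy =>
      intro i hi
      obtain ⟨j, hj, e1⟩ := hx i hi
      obtain ⟨l, hl, e2⟩ := hy j hj
      exact ⟨l, hl, by rw [map_mul, ← mul_assoc, e1, e2]⟩
  refine ⟨el, fun i hi => hel i hi, ?_, ?_⟩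
  · intro g
    obtain ⟨j, hj, e⟩ := step2 g.1 g.2 root hroot
    rw [h1, one_mul] at e
    refine ⟨j, hj, ?_⟩
    apply Subtype.ext
    apply hι
    rw [hel j hj, e]
  · intro i j hi hj h
    apply hinj i j hi hj
    rw [← hel i hi, ← hel j hj, h]

/-- A table of right multiples by `K` generators in a group, with images in a monoid multiplying
in the same way, defines a homomorphism. -/
theorem tabK_hom {G H : Type*} [Group G] [Monoid H] (K N root : ℕ)
    (el : ℕ → G) (im : ℕ → H) (nxt : ℕ → ℕ → ℕ) (par dep : ℕ → ℕ) (a' : ℕ → G) (a : ℕ → H)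
    (hsurj : ∀ g : G, ∃ i, i < N ∧ el i = g)
    (hinj : ∀ i j, i < N → j < N → el i = el j → i = j)
    (hroot : root < N) (hel1 : el root = 1) (him1 : im root = 1)
    (hnxt : ∀ k, k < K → ∀ i, i < N → nxt k i < N ∧ el (nxt k i) = el i * a' k ∧
      im (nxt k i) = im i * a k)
    (hpar : ∀ i, i < N → i ≠ root → par i < N ∧ dep (par i) < dep i ∧
      ∃ k, k < K ∧ nxt k (par i) = i) :
    ∃ φ : G →* H, ∀ i, i < N → φ (el i) = im i := by
  classical
  choose idx hidx using hsurj
  have hidx_el : ∀ i, i < N → idx (el i) = i :=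
    fun i hi => hinj _ _ (hidx (el i)).1 hi (hidx (el i)).2
  have hφel : ∀ i, i < N → im (idx (el i)) = im i := by
    intro i hi
    rw [hidx_el i hi]
  have hφ1 : im (idx 1) = 1 := by
    rw [← hel1, hφel root hroot, him1]
  have hφa : ∀ k, k < K → ∀ x, im (idx (x * a' k)) = im (idx x) * a k := by
    intro k hk x
    obtain ⟨hi, hx⟩ := hidx x
    have h := hnxt k hk (idx x) hi
    rw [hx] at h
    rw [← h.2.1, hφel _ h.1, h.2.2]
  have ha : ∀ k, k < K → im (idx (a' k)) = a k := by
    intro k hk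
    have := hφa k hk 1
    rwa [one_mul, hφ1, one_mul] at this
  let T : Submonoid G :=
    { carrier := {y | ∀ x, im (idx (x * y)) = im (idx x) * im (idx y)}
      one_mem' := by
        intro x
        rw [mul_one, hφ1, mul_one]
      mul_mem' := by
        intro y z hy hz x
        rw [← mul_assoc, hz (x * y), hy x, hz y, mul_assoc] }
  have hTel : ∀ i, i < N → el i ∈ T := by
    apply tabK_ind K N root (fun i => el i ∈ T) nxt par dep
    · show el root ∈ T
      rw [hel1]
      exact T.one_mem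
    · intro k hk i hi h
      show el (nxt k i) ∈ T
      rw [(hnxt k hk i hi).2.1]
      refine T.mul_mem h ?_
      intro x
      rw [hφa k hk, ha k hk]
    · exact hpar
  have hT : ∀ y x, im (idx (x * y)) = im (idx x) * im (idx y) := by
    intro y
    obtain ⟨hi, hy⟩ := hidx y
    have := hTel _ hi
    rw [hy] at this
    exact this
  exact ⟨{ toFun := fun g => im (idx g), map_one' := hφ1, map_mul' := fun x y => hT y x }, hφel⟩

/-- Two subgroups generated by `K` involutions with the same table are isomorphic, of the order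
given by the table. -/
theorem tabK_iso {G H M M' : Type*} [Group G] [Group H] [Monoid M] [Monoid M']
    (ι : G →* M) (hι : Function.Injective ι) (ι' : H →* M') (hι' : Function.Injective ι')
    (K N root : ℕ) (c : ℕ → M) (c' : ℕ → M') (nxt : ℕ → ℕ → ℕ) (par dep : ℕ → ℕ)
    (A : ℕ → G) (A' : ℕ → H)
    (hroot : root < N) (h1 : c root = 1) (h1' : c' root = 1)
    (hinj : ∀ i j, i < N → j < N → c i = c j → i = j)
    (hinj' : ∀ i j, i < N → j < N → c' i = c' j → i = j)
    (hnxt : ∀ k, k < K → ∀ i, i < N → nxt k i < N ∧ c (nxt k i) = c i * ι (A k))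
    (hnxt' : ∀ k, k < K → ∀ i, i < N → c' (nxt k i) = c' i * ι' (A' k))
    (hpar : ∀ i, i < N → i ≠ root → par i < N ∧ dep (par i) < dep i ∧
      ∃ k, k < K ∧ nxt k (par i) = i)
    (hinv : ∀ k, k < K → A k * A k = 1) (hinv' : ∀ k, k < K → A' k * A' k = 1) :
    Nat.card ↥(Subgroup.closure {g | ∃ k, k < K ∧ g = A k}) = N ∧
    Nat.card ↥(Subgroup.closure {g | ∃ k, k < K ∧ g = A' k}) = N ∧
    Nonempty (↥(Subgroup.closure {g | ∃ k, k < K ∧ g = A k}) ≃*
      ↥(Subgroup.closure {g | ∃ k, k < K ∧ g = A' k})) := by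
  obtain ⟨el, hel, hsurj, helinj⟩ := tabK_closure ι hι K N root c nxt par dep A hroot h1 hinj
    hnxt hpar hinv
  obtain ⟨el', hel', hsurj', helinj'⟩ := tabK_closure ι' hι' K N root c' nxt par dep A' hroot h1'
    hinj' (fun k hk i hi => ⟨(hnxt k hk i hi).1, hnxt' k hk i hi⟩) hpar hinv'
  have hcard : Nat.card ↥(Subgroup.closure {g | ∃ k, k < K ∧ g = A k}) = N := by
    have hb : Function.Bijective (fun i : Fin N => el i) :=
      ⟨fun i j h => Fin.ext (helinj i j i.isLt j.isLt h),
        fun g => by obtain ⟨i, hi, e⟩ := hsurj g; exact ⟨⟨i, hi⟩, e⟩⟩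
    rw [← Nat.card_congr (Equiv.ofBijective _ hb), Nat.card_fin]
  have hcard' : Nat.card ↥(Subgroup.closure {g | ∃ k, k < K ∧ g = A' k}) = N := by
    have hb : Function.Bijective (fun i : Fin N => el' i) :=
      ⟨fun i j h => Fin.ext (helinj' i j i.isLt j.isLt h),
        fun g => by obtain ⟨i, hi, e⟩ := hsurj' g; exact ⟨⟨i, hi⟩, e⟩⟩
    rw [← Nat.card_congr (Equiv.ofBijective _ hb), Nat.card_fin]
  refine ⟨hcard, hcard', ?_⟩
  have hAmem : ∀ k, k < K → A k ∈ Subgroup.closure {g | ∃ k, k < K ∧ g = A k} :=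
    fun k hk => Subgroup.subset_closure ⟨k, hk, rfl⟩
  have hAmem' : ∀ k, k < K → A' k ∈ Subgroup.closure {g | ∃ k, k < K ∧ g = A' k} :=
    fun k hk => Subgroup.subset_closure ⟨k, hk, rfl⟩
  let a : ℕ → ↥(Subgroup.closure {g | ∃ k, k < K ∧ g = A k}) := fun k =>
    if hk : k < K then ⟨A k, hAmem k hk⟩ else 1
  let a' : ℕ → ↥(Subgroup.closure {g | ∃ k, k < K ∧ g = A' k}) := fun k =>
    if hk : k < K then ⟨A' k, hAmem' k hk⟩ else 1
  have ha : ∀ k, k < K → ((a k : ↥(Subgroup.closure {g | ∃ k, k < K ∧ g = A k})) : G) = A k := by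
    intro k hk
    simp only [a]
    rw [dif_pos hk]
  have ha' : ∀ k, k < K →
      ((a' k : ↥(Subgroup.closure {g | ∃ k, k < K ∧ g = A' k})) : H) = A' k := by
    intro k hk
    simp only [a']
    rw [dif_pos hk]
  have hel1 : el root = 1 := by
    apply Subtype.ext
    apply hι
    rw [hel root hroot, h1]
    exact (map_one ι).symm
  have hel1' : el' root = 1 := by
    apply Subtype.ext
    apply hι'
    rw [hel' root hroot, h1']
    exact (map_one ι').symm
  obtain ⟨φ, hφ⟩ := tabK_hom K N root el el' nxt par dep a a' hsurj helinj hroot hel1 hel1'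
    (fun k hk i hi => ⟨(hnxt k hk i hi).1, by
        apply Subtype.ext
        apply hι
        rw [hel _ (hnxt k hk i hi).1, (hnxt k hk i hi).2, ← hel i hi, ← ha k hk]
        exact (map_mul ι _ _).symm, by
        apply Subtype.ext
        apply hι'
        rw [hel' _ (hnxt k hk i hi).1, hnxt' k hk i hi, ← hel' i hi, ← ha' k hk]
        exact (map_mul ι' _ _).symm⟩) hpar
  have hbij : Function.Bijective φ := by
    constructor
    · intro x y h
      obtain ⟨i, hi, rfl⟩ := hsurj x
      obtain ⟨j, hj, rfl⟩ := hsurj y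
      rw [hφ i hi, hφ j hj] at h
      rw [helinj' i j hi hj h]
    · intro y
      obtain ⟨i, hi, rfl⟩ := hsurj' y
      exact ⟨el i, hφ i hi⟩
  exact ⟨MulEquiv.ofBijective φ hbij⟩

/-- A `p`-subgroup of the full `p`-part order is isomorphic to every Sylow `p`-subgroup. -/
theorem sylow_iso_of_card {G : Type*} [Group G] [Finite G] (p n : ℕ) [Fact p.Prime]
    (T : Subgroup G) (hT : Nat.card T = p ^ n) (hG : ¬ p ^ (n + 1) ∣ Nat.card G)
    (P : Sylow p G) : Nonempty (↥(P : Subgroup G) ≃* ↥T) := by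
  have hp : p.Prime := Fact.out
  have hTp : IsPGroup p T := IsPGroup.of_card hT
  obtain ⟨Q, hQ⟩ := hTp.exists_le_sylow
  obtain ⟨m, hm⟩ := (IsPGroup.iff_card (p := p) (G := ↥(Q : Subgroup G))).mp Q.2
  have h1 : Nat.card T ∣ Nat.card (Q : Subgroup G) := Subgroup.card_dvd_of_le hQ
  have h2 : Nat.card (Q : Subgroup G) ∣ Nat.card G := Subgroup.card_subgroup_dvd_card _
  rw [hT, hm] at h1
  rw [hm] at h2
  have h3 : n ≤ m := (Nat.pow_dvd_pow_iff_le_right hp.one_lt).mp h1
  have h4 : m ≤ n := by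
    by_contra hlt
    push_neg at hlt
    exact hG ((pow_dvd_pow p hlt).trans h2)
  have h5 : T = (Q : Subgroup G) :=
    Subgroup.eq_of_le_of_card_ge hQ (by rw [hT, hm, le_antisymm h4 h3])
  exact ⟨(Sylow.equiv P Q).trans (MulEquiv.subgroupCongr h5.symm)⟩

end Cfsg.Agent.Helper2
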