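import Mathlib
import Cfsg.Agent.Helper2.CMat
import Cfsg.Agent.Helper15.SUCard

set_option autoImplicit false

namespace Cfsg.Agent.Helper2

/-! Arithmetic in `F₁₆ = F₂[ω]/(ω⁴ + ω + 1)` on codes `e = a₀ + 2 a₁ + 4 a₂ + 8 a₃`, with primitive
operations, and packed `3 × 3` matrices (base-16 digits of one number). -/

def fadd16 (e f : ℕ) : ℕ :=
  Nat.add (Nat.add (Nat.add (Nat.mod (Nat.add (Nat.mod e 2) (Nat.mod f 2)) 2)
    (Nat.mul 2 (Nat.mod (Nat.add (Nat.mod (Nat.div e 2) 2) (Nat.mod (Nat.div f 2) 2)) 2)))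
    (Nat.mul 4 (Nat.mod (Nat.add (Nat.mod (Nat.div e 4) 2) (Nat.mod (Nat.div f 4) 2)) 2)))
    (Nat.mul 8 (Nat.mod (Nat.add (Nat.mod (Nat.div e 8) 2) (Nat.mod (Nat.div f 8) 2)) 2))

def fmul16c (a0 a1 a2 a3 b0 b1 b2 b3 : ℕ) : ℕ :=
  Nat.add (Nat.add (Nat.add
    (Nat.mod (Nat.add (Nat.mul a0 b0)
      (Nat.add (Nat.add (Nat.mul a1 b3) (Nat.mul a2 b2)) (Nat.mul a3 b1))) 2)
    (Nat.mul 2 (Nat.mod (Nat.add (Nat.add (Nat.add (Nat.mul a0 b1) (Nat.mul a1 b0))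
      (Nat.add (Nat.add (Nat.mul a1 b3) (Nat.mul a2 b2)) (Nat.mul a3 b1)))
      (Nat.add (Nat.mul a2 b3) (Nat.mul a3 b2))) 2)))
    (Nat.mul 4 (Nat.mod (Nat.add (Nat.add (Nat.add (Nat.add (Nat.mul a0 b2) (Nat.mul a1 b1))
      (Nat.mul a2 b0)) (Nat.add (Nat.mul a2 b3) (Nat.mul a3 b2))) (Nat.mul a3 b3)) 2)))
    (Nat.mul 8 (Nat.mod (Nat.add (Nat.add (Nat.add (Nat.add (Nat.mul a0 b3) (Nat.mul a1 b2))
      (Nat.mul a2 b1)) (Nat.mul a3 b0)) (Nat.mul a3 b3)) 2))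

def fmul16 (e f : ℕ) : ℕ :=
  fmul16c (Nat.mod e 2) (Nat.mod (Nat.div e 2) 2) (Nat.mod (Nat.div e 4) 2)
    (Nat.mod (Nat.div e 8) 2) (Nat.mod f 2) (Nat.mod (Nat.div f 2) 2) (Nat.mod (Nat.div f 4) 2)
    (Nat.mod (Nat.div f 8) 2)

/-- The map `x ↦ x⁴`. -/
def fconj16 (e : ℕ) : ℕ := fmul16 (fmul16 e e) (fmul16 e e)

/-- Digit at the place `t = 16 ^ s`. -/
def pd16 (a t : ℕ) : ℕ := Nat.mod (Nat.div a t) 16

def pent16 (a b ta0 ta1 ta2 tb0 tb1 tb2 : ℕ) : ℕ :=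
  fadd16 (fadd16 (fmul16 (pd16 a ta0) (pd16 b tb0)) (fmul16 (pd16 a ta1) (pd16 b tb1)))
    (fmul16 (pd16 a ta2) (pd16 b tb2))

/-- Packed product of two packed `3 × 3` matrices over `F₁₆`. -/
def pmul16 (a b : ℕ) : ℕ :=
  Nat.add (pent16 a b 1 16 256 1 4096 16777216)
  (Nat.mul 16 (Nat.add (pent16 a b 1 16 256 16 65536 268435456)
  (Nat.mul 16 (Nat.add (pent16 a b 1 16 256 256 1048576 4294967296)
  (Nat.mul 16 (Nat.add (pent16 a b 4096 65536 1048576 1 4096 16777216)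
  (Nat.mul 16 (Nat.add (pent16 a b 4096 65536 1048576 16 65536 268435456)
  (Nat.mul 16 (Nat.add (pent16 a b 4096 65536 1048576 256 1048576 4294967296)
  (Nat.mul 16 (Nat.add (pent16 a b 16777216 268435456 4294967296 1 4096 16777216)
  (Nat.mul 16 (Nat.add (pent16 a b 16777216 268435456 4294967296 16 65536 268435456)
  (Nat.mul 16 (pent16 a b 16777216 268435456 4294967296 256 1048576 4294967296))))))))))))))))

def pone16 : ℕ := 4295032833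

def uent16 (x0 x1 x2 y0 y1 y2 : ℕ) : ℕ :=
  fadd16 (fadd16 (fmul16 x0 (fconj16 y0)) (fmul16 x1 (fconj16 y1))) (fmul16 x2 (fconj16 y2))

def ucheck16 (a j k δ : ℕ) : Bool :=
  Nat.beq (uent16 (pd16 a (16 ^ j)) (pd16 a (16 ^ (3 + j))) (pd16 a (16 ^ (6 + j)))
    (pd16 a (16 ^ k)) (pd16 a (16 ^ (3 + k))) (pd16 a (16 ^ (6 + k)))) δ

def puni16 (a : ℕ) : Bool :=
  ucheck16 a 0 0 1 &&
    ucheck16 a 0 1 0 &&
    ucheck16 a 0 2 0 &&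
    ucheck16 a 1 0 0 &&
    ucheck16 a 1 1 1 &&
    ucheck16 a 1 2 0 &&
    ucheck16 a 2 0 0 &&
    ucheck16 a 2 1 0 &&
    ucheck16 a 2 2 1

def pdet16 (a : ℕ) : ℕ :=
  fadd16 (fadd16 (fadd16 (fmul16 (fmul16 (pd16 a 1) (pd16 a 65536)) (pd16 a 4294967296))
    (fmul16 (fmul16 (pd16 a 16) (pd16 a 1048576)) (pd16 a 16777216)))
    (fmul16 (fmul16 (pd16 a 256) (pd16 a 4096)) (pd16 a 268435456)))
    (fadd16 (fadd16 (fmul16 (fmul16 (pd16 a 256) (pd16 a 65536)) (pd16 a 16777216))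
      (fmul16 (fmul16 (pd16 a 16) (pd16 a 4096)) (pd16 a 4294967296)))
      (fmul16 (fmul16 (pd16 a 1) (pd16 a 1048576)) (pd16 a 268435456)))

section F16

variable {F : Type*} [Field F]

/-- Decoding a code of `F₁₆`. -/
def dec16 (w : F) (e : ℕ) : F :=
  ((e % 2 : ℕ) : F) + ((e / 2 % 2 : ℕ) : F) * w + ((e / 4 % 2 : ℕ) : F) * w ^ 2 +
    ((e / 8 % 2 : ℕ) : F) * w ^ 3

theorem two_eq_zero16 [CharP F 2] : (2 : F) = 0 := by
  have := CharP.cast_eq_zero F 2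
  exact_mod_cast this

theorem cast_mod2 [CharP F 2] (n : ℕ) : ((n % 2 : ℕ) : F) = (n : F) := by
  have h2 : (2 : F) = 0 := two_eq_zero16
  conv_rhs => rw [← Nat.div_add_mod n 2]
  push_cast
  rw [h2, zero_mul, zero_add]

theorem bits4 (x0 x1 x2 x3 : ℕ) (h0 : x0 < 2) (h1 : x1 < 2) (h2 : x2 < 2) (h3 : x3 < 2) :
    (x0 + 2 * x1 + 4 * x2 + 8 * x3) % 2 = x0 ∧ (x0 + 2 * x1 + 4 * x2 + 8 * x3) / 2 % 2 = x1 ∧
    (x0 + 2 * x1 + 4 * x2 + 8 * x3) / 4 % 2 = x2 ∧ (x0 + 2 * x1 + 4 * x2 + 8 * x3) / 8 % 2 = x3 ∧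
    (x0 + 2 * x1 + 4 * x2 + 8 * x3) < 16 := by
  refine ⟨?_, ?_, ?_, ?_, ?_⟩ <;> omega

theorem fadd16_def (e f : ℕ) : fadd16 e f = (e % 2 + f % 2) % 2 +
    2 * ((e / 2 % 2 + f / 2 % 2) % 2) + 4 * ((e / 4 % 2 + f / 4 % 2) % 2) +
    8 * ((e / 8 % 2 + f / 8 % 2) % 2) := rfl

theorem fadd16_lt (e f : ℕ) : fadd16 e f < 16 := by
  rw [fadd16_def]
  exact (bits4 _ _ _ _ (Nat.mod_lt _ (by norm_num)) (Nat.mod_lt _ (by norm_num))
    (Nat.mod_lt _ (by norm_num)) (Nat.mod_lt _ (by norm_num))).2.2.2.2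

theorem dec16_add [CharP F 2] (w : F) (e f : ℕ) :
    dec16 w (fadd16 e f) = dec16 w e + dec16 w f := by
  obtain ⟨h0, h1, h2, h3, -⟩ := bits4 ((e % 2 + f % 2) % 2) ((e / 2 % 2 + f / 2 % 2) % 2)
    ((e / 4 % 2 + f / 4 % 2) % 2) ((e / 8 % 2 + f / 8 % 2) % 2) (Nat.mod_lt _ (by norm_num))
    (Nat.mod_lt _ (by norm_num)) (Nat.mod_lt _ (by norm_num)) (Nat.mod_lt _ (by norm_num))
  rw [← fadd16_def] at h0 h1 h2 h3
  unfold dec16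
  rw [h0, h1, h2, h3, cast_mod2, cast_mod2, cast_mod2, cast_mod2]
  push_cast
  ring

theorem fmul16c_def (a0 a1 a2 a3 b0 b1 b2 b3 : ℕ) : fmul16c a0 a1 a2 a3 b0 b1 b2 b3 =
    (a0 * b0 + (a1 * b3 + a2 * b2 + a3 * b1)) % 2 +
    2 * ((a0 * b1 + a1 * b0 + (a1 * b3 + a2 * b2 + a3 * b1) + (a2 * b3 + a3 * b2)) % 2) +
    4 * ((a0 * b2 + a1 * b1 + a2 * b0 + (a2 * b3 + a3 * b2) + a3 * b3) % 2) +
    8 * ((a0 * b3 + a1 * b2 + a2 * b1 + a3 * b0 + a3 * b3) % 2) := rfl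

theorem fmul16c_bits (a0 a1 a2 a3 b0 b1 b2 b3 : ℕ) :
    fmul16c a0 a1 a2 a3 b0 b1 b2 b3 % 2 = (a0 * b0 + (a1 * b3 + a2 * b2 + a3 * b1)) % 2 ∧
    fmul16c a0 a1 a2 a3 b0 b1 b2 b3 / 2 % 2 =
      (a0 * b1 + a1 * b0 + (a1 * b3 + a2 * b2 + a3 * b1) + (a2 * b3 + a3 * b2)) % 2 ∧
    fmul16c a0 a1 a2 a3 b0 b1 b2 b3 / 4 % 2 =
      (a0 * b2 + a1 * b1 + a2 * b0 + (a2 * b3 + a3 * b2) + a3 * b3) % 2 ∧
    fmul16c a0 a1 a2 a3 b0 b1 b2 b3 / 8 % 2 =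
      (a0 * b3 + a1 * b2 + a2 * b1 + a3 * b0 + a3 * b3) % 2 ∧
    fmul16c a0 a1 a2 a3 b0 b1 b2 b3 < 16 := by
  rw [fmul16c_def]
  exact bits4 _ _ _ _ (Nat.mod_lt _ (by norm_num)) (Nat.mod_lt _ (by norm_num))
    (Nat.mod_lt _ (by norm_num)) (Nat.mod_lt _ (by norm_num))

theorem fmul16_def (e f : ℕ) : fmul16 e f = fmul16c (e % 2) (e / 2 % 2) (e / 4 % 2) (e / 8 % 2)
    (f % 2) (f / 2 % 2) (f / 4 % 2) (f / 8 % 2) := rfl

theorem fmul16_lt (e f : ℕ) : fmul16 e f < 16 := by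
  rw [fmul16_def]
  exact (fmul16c_bits _ _ _ _ _ _ _ _).2.2.2.2

theorem dec16_mul [CharP F 2] (w : F) (hw : w ^ 4 = w + 1) (e f : ℕ) :
    dec16 w (fmul16 e f) = dec16 w e * dec16 w f := by
  obtain ⟨h0, h1, h2, h3, -⟩ := fmul16c_bits (e % 2) (e / 2 % 2) (e / 4 % 2) (e / 8 % 2) (f % 2)
    (f / 2 % 2) (f / 4 % 2) (f / 8 % 2)
  rw [← fmul16_def] at h0 h1 h2 h3
  unfold dec16
  rw [h0, h1, h2, h3, cast_mod2, cast_mod2, cast_mod2, cast_mod2]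
  push_cast
  linear_combination (-((((e / 2 % 2 : ℕ) : F) * ((f / 8 % 2 : ℕ) : F) +
    ((e / 4 % 2 : ℕ) : F) * ((f / 4 % 2 : ℕ) : F) + ((e / 8 % 2 : ℕ) : F) * ((f / 2 % 2 : ℕ) : F)) +
    (((e / 4 % 2 : ℕ) : F) * ((f / 8 % 2 : ℕ) : F) +
      ((e / 8 % 2 : ℕ) : F) * ((f / 4 % 2 : ℕ) : F)) * w +
    (((e / 8 % 2 : ℕ) : F) * ((f / 8 % 2 : ℕ) : F)) * w ^ 2)) * hw

theorem dec16_conj [CharP F 2] (w : F) (hw : w ^ 4 = w + 1) (e : ℕ) :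
    dec16 w (fconj16 e) = dec16 w e ^ 4 := by
  unfold fconj16
  rw [dec16_mul w hw, dec16_mul w hw]
  ring

theorem dec16_zero (w : F) : dec16 w 0 = 0 := by simp [dec16]

theorem dec16_one (w : F) : dec16 w 1 = 1 := by simp [dec16]

theorem f16_inv_chk : ((List.range 16).all fun a =>
    Nat.beq a 0 || (List.range 16).any fun b => Nat.beq (fmul16 a b) 1) = true := by
  decide +kernel

theorem dec16_ne_zero [CharP F 2] (w : F) (hw : w ^ 4 = w + 1) (e : ℕ) (he : e < 16)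
    (h0 : e ≠ 0) : dec16 w e ≠ 0 := by
  have h := f16_inv_chk
  rw [List.all_eq_true] at h
  have h1 := h e (List.mem_range.mpr he)
  rw [Bool.or_eq_true] at h1
  rcases h1 with h1 | h1
  · exact absurd (Nat.eq_of_beq_eq_true h1) h0
  · rw [List.any_eq_true] at h1
    obtain ⟨b, -, hb⟩ := h1
    have hb' : fmul16 e b = 1 := Nat.eq_of_beq_eq_true hb
    intro hz
    have := dec16_mul w hw e b
    rw [hb', dec16_one, hz, zero_mul] at this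
    exact one_ne_zero this

theorem f16_add_chk : ((List.range 16).all fun e => (List.range 16).all fun f =>
    Nat.beq e f || !(Nat.beq (fadd16 e f) 0)) = true := by
  decide +kernel

theorem dec16_inj [CharP F 2] (w : F) (hw : w ^ 4 = w + 1) (e f : ℕ) (he : e < 16) (hf : f < 16)
    (h : dec16 w e = dec16 w f) : e = f := by
  have h2 : (2 : F) = 0 := two_eq_zero16
  have h1 : dec16 w (fadd16 e f) = 0 := by
    rw [dec16_add, h]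
    linear_combination (dec16 w f) * h2
  by_contra hne
  have hc := f16_add_chk
  rw [List.all_eq_true] at hc
  have hc1 := hc e (List.mem_range.mpr he)
  rw [List.all_eq_true] at hc1
  have hc2 := hc1 f (List.mem_range.mpr hf)
  rw [Bool.or_eq_true] at hc2
  rcases hc2 with hc2 | hc2
  · exact hne (Nat.eq_of_beq_eq_true hc2)
  · have h3 : fadd16 e f ≠ 0 := by
      intro h0
      rw [h0] at hc2
      exact absurd hc2 (by decide)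
    exact dec16_ne_zero w hw _ (fadd16_lt e f) h3 h1

end F16

end Cfsg.Agent.Helper2
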