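import Mathlib
import Cfsg.Agent.Helper2.U42Codes

set_option autoImplicit false

namespace Cfsg.Agent.Helper2

/-! Generic facts on packed `4 × 4` matrices. -/

theorem pkB_zero (f : ℕ → ℕ) (B t : ℕ) : pkB f B 0 t = 0 := rfl

theorem pkB_succ (f : ℕ → ℕ) (B n t : ℕ) :
    pkB f B (n + 1) t = f t + B * pkB f B n (t + 1) := rfl

theorem dgB_def (B a t : ℕ) : dgB B a t = a / B ^ t % B := rfl

theorem dgB_lt (B a t : ℕ) (hB : 0 < B) : dgB B a t < B := Nat.mod_lt _ hB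

theorem dgB_pkB (f : ℕ → ℕ) (B : ℕ) (hf : ∀ s, f s < B) :
    ∀ n t s, s < n → dgB B (pkB f B n t) s = f (t + s) := by
  intro n
  induction n with
  | zero => intro t s hs; omega
  | succ n ih =>
    intro t s hs
    have hB : 0 < B := lt_of_le_of_lt (Nat.zero_le _) (hf 0)
    rw [pkB_succ]
    cases s with
    | zero =>
      rw [dgB_def, pow_zero, Nat.div_one, Nat.add_mul_mod_self_left, Nat.mod_eq_of_lt (hf t),
        add_zero]
    | succ s =>
      have h1 : dgB B (f t + B * pkB f B n (t + 1)) (s + 1) = dgB B (pkB f B n (t + 1)) s := by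
        rw [dgB_def, dgB_def, pow_succ', ← Nat.div_div_eq_div_mul, Nat.add_mul_div_left _ _ hB,
          Nat.div_eq_of_lt (hf t), zero_add]
      rw [h1, ih (t + 1) s (by omega)]
      congr 1
      omega

theorem digitsB_inj (B : ℕ) : ∀ (n k k' : ℕ), k < B ^ n → k' < B ^ n →
    (∀ t, t < n → dgB B k t = dgB B k' t) → k = k' := by
  intro n
  induction n with
  | zero =>
    intro k k' hk hk' _
    simp at hk hk'
    rw [hk, hk']
  | succ n ih =>
    intro k k' hk hk' h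
    have h0 := h 0 (Nat.succ_pos n)
    simp only [dgB_def, pow_zero, Nat.div_one] at h0
    have h1 : k / B = k' / B := by
      apply ih
      · rw [pow_succ] at hk
        exact Nat.div_lt_of_lt_mul (by rw [mul_comm]; exact hk)
      · rw [pow_succ] at hk'
        exact Nat.div_lt_of_lt_mul (by rw [mul_comm]; exact hk')
      · intro t ht
        have := h (t + 1) (Nat.succ_lt_succ ht)
        rw [dgB_def, dgB_def, pow_succ', ← Nat.div_div_eq_div_mul,
          ← Nat.div_div_eq_div_mul] at this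
        exact this
    rw [← Nat.div_add_mod k B, ← Nat.div_add_mod k' B, h0, h1]

section Ring

variable {R : Type*} [Semiring R]

/-- The matrix of a packed code, the digits decoded by `dec`. -/
def mdB (dec : ℕ → R) (B a : ℕ) : Matrix (Fin 4) (Fin 4) R :=
  Matrix.of fun i j => dec (dgB B a (4 * (i : ℕ) + (j : ℕ)))

theorem mdB_apply (dec : ℕ → R) (B a : ℕ) (i j : Fin 4) :
    mdB dec B a i j = dec (dgB B a (4 * (i : ℕ) + (j : ℕ))) := rfl

theorem mdB_inj (dec : ℕ → R) (B : ℕ) (hB : 0 < B)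
    (hdec : ∀ x y, x < B → y < B → dec x = dec y → x = y)
    (a b : ℕ) (ha : a < B ^ 16) (hb : b < B ^ 16) (h : mdB dec B a = mdB dec B b) : a = b := by
  apply digitsB_inj B 16 a b ha hb
  intro t ht
  have h3 : t / 4 < 4 := by omega
  have h4 : t % 4 < 4 := Nat.mod_lt _ (by norm_num)
  have := congrFun (congrFun h ⟨t / 4, h3⟩) ⟨t % 4, h4⟩
  simp only [mdB_apply] at this
  rw [Nat.div_add_mod] at this
  exact hdec _ _ (dgB_lt _ _ _ hB) (dgB_lt _ _ _ hB) this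

/-- One entry of the product. -/
def entG (ent : ℕ → ℕ → ℕ → ℕ → ℕ → ℕ → ℕ → ℕ → ℕ) (B a b i j : ℕ) : ℕ :=
  ent (dgB B a (4 * i)) (dgB B a (4 * i + 1)) (dgB B a (4 * i + 2)) (dgB B a (4 * i + 3))
    (dgB B b j) (dgB B b (4 + j)) (dgB B b (8 + j)) (dgB B b (12 + j))

theorem pmulB_eq (ent : ℕ → ℕ → ℕ → ℕ → ℕ → ℕ → ℕ → ℕ → ℕ) (B a b : ℕ) :
    pmulB ent B a b = pkB (fun t => entG ent B a b (t / 4) (t % 4)) B 16 0 := rfl

theorem mdB_pmulB (dec : ℕ → R) (B : ℕ) (hB : 0 < B)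
    (ent : ℕ → ℕ → ℕ → ℕ → ℕ → ℕ → ℕ → ℕ → ℕ)
    (hent : ∀ a0 a1 a2 a3 b0 b1 b2 b3, a0 < B → a1 < B → a2 < B → a3 < B → b0 < B → b1 < B →
      b2 < B → b3 < B → ent a0 a1 a2 a3 b0 b1 b2 b3 < B ∧
      dec (ent a0 a1 a2 a3 b0 b1 b2 b3) =
        dec a0 * dec b0 + dec a1 * dec b1 + dec a2 * dec b2 + dec a3 * dec b3)
    (a b : ℕ) : mdB dec B (pmulB ent B a b) = mdB dec B a * mdB dec B b := by
  have hd : ∀ x t, dgB B x t < B := fun x t => dgB_lt B x t hB
  have hlt : ∀ s, (fun t => entG ent B a b (t / 4) (t % 4)) s < B := by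
    intro s
    exact (hent _ _ _ _ _ _ _ _ (hd _ _) (hd _ _) (hd _ _) (hd _ _) (hd _ _) (hd _ _) (hd _ _)
      (hd _ _)).1
  ext i j
  have hi := i.isLt
  have hj := j.isLt
  have e1 : (0 + (4 * (i : ℕ) + (j : ℕ))) / 4 = i := by omega
  have e2 : (0 + (4 * (i : ℕ) + (j : ℕ))) % 4 = j := by omega
  have h0 : ((0 : Fin 4) : ℕ) = 0 := rfl
  have h1 : ((1 : Fin 4) : ℕ) = 1 := rfl
  have h2 : ((2 : Fin 4) : ℕ) = 2 := rfl
  have h3 : ((3 : Fin 4) : ℕ) = 3 := rfl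
  rw [Matrix.mul_apply, Fin.sum_univ_four]
  simp only [mdB_apply]
  rw [pmulB_eq, dgB_pkB _ B hlt 16 0 _ (by omega)]
  simp only [e1, e2]
  unfold entG
  rw [(hent _ _ _ _ _ _ _ _ (hd _ _) (hd _ _) (hd _ _) (hd _ _) (hd _ _) (hd _ _) (hd _ _)
      (hd _ _)).2, h0, h1, h2, h3]
  norm_num

theorem ptrB_eq (B a : ℕ) :
    ptrB B a = pkB (fun t => dgB B a (4 * (t % 4) + t / 4)) B 16 0 := rfl

theorem mdB_ptrB (dec : ℕ → R) (B : ℕ) (hB : 0 < B) (a : ℕ) :
    mdB dec B (ptrB B a) = (mdB dec B a).transpose := by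
  ext i j
  have hi := i.isLt
  have hj := j.isLt
  have e1 : (0 + (4 * (i : ℕ) + (j : ℕ))) / 4 = i := by omega
  have e2 : (0 + (4 * (i : ℕ) + (j : ℕ))) % 4 = j := by omega
  rw [Matrix.transpose_apply, mdB_apply, mdB_apply, ptrB_eq,
    dgB_pkB _ B (fun s => dgB_lt _ _ _ hB) 16 0 _ (by omega)]
  simp only [e1, e2]

theorem pmapB_eq (g : ℕ → ℕ) (B a : ℕ) :
    pmapB g B a = pkB (fun t => g (dgB B a t)) B 16 0 := rfl

theorem mdB_pmapB (dec : ℕ → R) (B : ℕ) (hB : 0 < B) (g : ℕ → ℕ) (hg : ∀ x, x < B → g x < B)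
    (a : ℕ) (i j : Fin 4) :
    mdB dec B (pmapB g B a) i j = dec (g (dgB B a (4 * (i : ℕ) + (j : ℕ)))) := by
  have hi := i.isLt
  have hj := j.isLt
  rw [mdB_apply, pmapB_eq,
    dgB_pkB _ B (fun s => hg _ (dgB_lt _ _ _ hB)) 16 0 _ (by omega), zero_add]

theorem mdB_one (dec : ℕ → R) (B c : ℕ) (h0 : dec 0 = 0) (h1 : dec 1 = 1)
    (hc : ∀ t, t < 16 → dgB B c t = if t / 4 = t % 4 then 1 else 0) : mdB dec B c = 1 := by
  ext i j
  have hi := i.isLt
  have hj := j.isLt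
  have e1 : (4 * (i : ℕ) + (j : ℕ)) / 4 = i := by omega
  have e2 : (4 * (i : ℕ) + (j : ℕ)) % 4 = j := by omega
  rw [mdB_apply, hc _ (by omega), e1, e2, Matrix.one_apply]
  by_cases hij : i = j
  · subst hij
    simp [h1]
  · have hne : (i : ℕ) ≠ (j : ℕ) := fun h => hij (Fin.ext h)
    simp [hne, hij, h0]

end Ring

end Cfsg.Agent.Helper2
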